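import Groth.Prelude.Def_CInt
import Mathlib.AlgebraicGeometry.Morphisms.ClosedImmersion
import Mathlib.AlgebraicGeometry.Morphisms.Immersion
import Mathlib.AlgebraicGeometry.Morphisms.Separated
import Mathlib.AlgebraicGeometry.Fiber
import Mathlib.AlgebraicGeometry.Pullbacks
import Mathlib.CategoryTheory.Monoidal.Cartesian.Over
import Mathlib.CategoryTheory.Monoidal.Cartesian.Grp

/-! Group schemes over a field are separated; morphisms agreeing on a universally schematically dense open
into a scheme with separated fibres are equal. -/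

universe u

open CategoryTheory Limits AlgebraicGeometry MonoidalCategory CartesianMonoidalCategory MonObj GrpObj

namespace Groth.Agent.SGA3xLib

theorem range_isClosed_of_section {K : Type u} [Field K] {X : Scheme.{u}} (q : X ⟶ Spec (CommRingCat.of K))
    (s : Spec (CommRingCat.of K) ⟶ X) (hs : s ≫ q = 𝟙 _) : IsClosed (Set.range s.base) := by
  obtain ⟨o⟩ : Nonempty ↥(Spec (CommRingCat.of K)) := inferInstanceAs (Nonempty (PrimeSpectrum K))
  have hsub : ∀ a b : ↥(Spec (CommRingCat.of K)), a = b := fun a b =>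
    Subsingleton.elim (α := PrimeSpectrum K) a b
  have hr : Set.range s.base = {s.base o} := Set.eq_singleton_iff_unique_mem.mpr
    ⟨⟨o, rfl⟩, by rintro _ ⟨y, rfl⟩; rw [hsub y o]⟩
  rw [hr, ← closure_subset_iff_isClosed]
  intro y hy
  obtain ⟨_, ⟨W, hV, rfl⟩, hyV, -⟩ := X.isBasis_affineOpens.exists_subset_of_mem_open (Set.mem_univ y) isOpen_univ
  let V : X.Opens := W
  obtain ⟨z, hzV, hz⟩ := mem_closure_iff.mp hy _ V.2 hyV
  obtain rfl := Set.mem_singleton_iff.mp hz
  have hrange : Set.range s.base ⊆ Set.range V.ι.base := by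
    rw [hr, Scheme.Opens.range_ι, Set.singleton_subset_iff]; exact hzV
  let s' := IsOpenImmersion.lift V.ι s hrange
  have : IsAffine V.toScheme := hV
  have hs' : s' ≫ (V.ι ≫ q) = 𝟙 _ := by rw [← Category.assoc, IsOpenImmersion.lift_fac, hs]
  have : IsClosedImmersion (s' ≫ (V.ι ≫ q)) := by rw [hs']; infer_instance
  have : IsClosedImmersion s' := IsClosedImmersion.of_comp s' (V.ι ≫ q)
  have hcl := s'.isClosedEmbedding.isClosed_range
  obtain ⟨y', rfl⟩ : y ∈ Set.range V.ι.base := by rw [Scheme.Opens.range_ι]; exact hyV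
  have hy' : y' ∈ closure (Set.range s'.base) := by
    rw [V.ι.isOpenEmbedding.isInducing.closure_eq_preimage_closure_image]
    refine closure_mono (fun z hz => ?_) hy
    obtain rfl := Set.mem_singleton_iff.mp hz
    refine ⟨s'.base o, ⟨o, rfl⟩, ?_⟩
    rw [← TopCat.comp_app, ← Scheme.Hom.comp_base, IsOpenImmersion.lift_fac]
  obtain ⟨o', rfl⟩ := hcl.closure_subset hy'
  refine Set.mem_singleton_iff.mpr ?_
  rw [← TopCat.comp_app, ← Scheme.Hom.comp_base, IsOpenImmersion.lift_fac, hsub o' o]

theorem isClosedImmersion_of_section {K : Type u} [Field K] {X : Scheme.{u}} (q : X ⟶ Spec (CommRingCat.of K))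
    (s : Spec (CommRingCat.of K) ⟶ X) (hs : s ≫ q = 𝟙 _) : IsClosedImmersion s := by
  have : IsImmersion (s ≫ q) := by rw [hs]; infer_instance
  have : IsImmersion s := IsImmersion.of_comp s q
  exact IsClosedImmersion.of_isPreimmersion s (range_isClosed_of_section q s hs)

/-- A group scheme over a field is separated. -/
theorem isSeparated_of_grpObj {K : Type u} [Field K] (G : Over (Spec (CommRingCat.of K))) [GrpObj G] :
    IsSeparated G.hom := by
  let δ : G ⊗ G ⟶ G := fst G G * (snd G G)⁻¹
  let Δ : G ⟶ G ⊗ G := lift (𝟙 G) (𝟙 G)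
  have hw : Δ ≫ δ = toUnit G ≫ η[G] := by
    simp only [δ, Δ, MonObj.comp_mul, GrpObj.comp_inv, lift_fst, lift_snd, mul_inv_cancel]
    exact Hom.one_def
  have hp : IsPullback Δ (toUnit G) δ η[G] := by
    refine ⟨⟨hw⟩, ⟨PullbackCone.IsLimit.mk hw (fun c => c.fst ≫ fst G G) (fun c => ?_) (fun c => toUnit_unique _ _)
      (fun c m h1 _ => ?_)⟩⟩
    · have h : c.fst ≫ δ = 1 := by
        exact c.condition.trans ((congrArg (· ≫ η[G]) (toUnit_unique c.snd (toUnit c.pt))).trans Hom.one_def.symm)
      simp only [δ, MonObj.comp_mul, GrpObj.comp_inv, mul_inv_eq_one] at h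
      apply CartesianMonoidalCategory.hom_ext
      · simp [Δ]
      · simp [Δ, h]
    · rw [← h1]; simp [Δ]
  have hp' : IsPullback Δ.left (toUnit G).left δ.left η[G].left := hp.map (Over.forget _)
  have hη : η[G].left ≫ G.hom = 𝟙 _ := Over.w η[G]
  have : IsClosedImmersion η[G].left := isClosedImmersion_of_section G.hom η[G].left hη
  have hΔ : IsClosedImmersion Δ.left := MorphismProperty.of_isPullback hp'.flip this
  refine ⟨?_⟩
  have hd : Δ.left = pullback.diagonal G.hom := by
    apply pullback.hom_ext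
    · rw [pullback.diagonal_fst]; exact congrArg (fun t : G ⟶ G => t.left) (lift_fst (𝟙 G) (𝟙 G))
    · rw [pullback.diagonal_snd]; exact congrArg (fun t : G ⟶ G => t.left) (lift_snd (𝟙 G) (𝟙 G))
  exact hd ▸ hΔ

theorem dense_of_schematicallyDense {X : Scheme.{u}} {U : X.Opens} (hU : CInt.IsSchematicallyDense U) :
    Dense (U : Set X) := by
  refine dense_iff_inter_open.mpr fun V hV ⟨x, hx⟩ => ?_
  by_contra hne
  rw [Set.not_nonempty_iff_eq_empty] at hne
  have hbot : (⟨V, hV⟩ : X.Opens) ⊓ U = ⊥ := TopologicalSpace.Opens.ext hne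
  have h0 : Subsingleton Γ(X, (⟨V, hV⟩ : X.Opens) ⊓ U) := by
    rw [hbot]; infer_instance
  have h1 : (1 : Γ(X, ⟨V, hV⟩)) = 0 := hU _ (Subsingleton.elim _ _)
  have h2 := congrArg (X.presheaf.germ ⟨V, hV⟩ x hx).hom h1
  rw [map_one, map_zero] at h2
  exact one_ne_zero h2

theorem schematicallyDense_preimage {W X : Scheme.{u}} (e : W ⟶ X) [IsOpenImmersion e] {U : X.Opens}
    (hU : CInt.IsSchematicallyDense U) : CInt.IsSchematicallyDense (e ⁻¹ᵁ U) := by
  intro V a b hab
  have him : e ''ᵁ (V ⊓ e ⁻¹ᵁ U) = e ''ᵁ V ⊓ U := by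
    apply TopologicalSpace.Opens.ext
    exact Set.image_inter_preimage _ _ _
  have hinj : Function.Injective (e.appIso V).inv := fun x y hxy => by
    simpa using congrArg (e.appIso V).hom hxy
  refine hinj (hU _ ?_)
  have key : ∀ t, X.presheaf.map (homOfLE (inf_le_left : e ''ᵁ V ⊓ U ≤ e ''ᵁ V)).op ((e.appIso V).inv t) =
      X.presheaf.map (eqToHom him.symm).op
        ((e.appIso (V ⊓ e ⁻¹ᵁ U)).inv (W.presheaf.map (homOfLE (inf_le_left : V ⊓ e ⁻¹ᵁ U ≤ V)).op t)) := fun t => by
    simp only [← CommRingCat.comp_apply]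
    rw [Scheme.Hom.appIso_inv_naturality, Category.assoc, ← Functor.map_comp]
    rfl
  rw [key, key]
  exact congrArg _ (congrArg _ hab)

theorem eq_of_schematicallyDense {X Z : Scheme.{u}} [IsAffine Z] {U : X.Opens} (hU : CInt.IsSchematicallyDense U)
    {a b : X ⟶ Z} (h : U.ι ≫ a = U.ι ≫ b) : a = b := by
  refine ext_of_isAffine (CommRingCat.hom_ext (RingHom.ext fun t => hU ⊤ ?_))
  have key : ∀ x : Γ(X, ⊤), X.presheaf.map (homOfLE (inf_le_left : (⊤ : X.Opens) ⊓ U ≤ ⊤)).op x =
      X.presheaf.map (eqToHom (by simp) : ⊤ ⊓ U ⟶ U.ι ''ᵁ ⊤).op (U.ι.appTop x) := fun x =>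
    congrArg (fun φ : Γ(X, ⊤) ⟶ Γ(X, ⊤ ⊓ U) => φ x)
      (X.presheaf.map_comp (homOfLE (x := U.ι ''ᵁ ⊤) le_top).op (eqToHom (by simp) : ⊤ ⊓ U ⟶ U.ι ''ᵁ ⊤).op)
  have h' := congrArg (fun c : (U : Scheme.{u}) ⟶ Z => c.appTop t) h
  simp only [Scheme.Hom.comp_appTop, CommRingCat.comp_apply] at h'
  rw [key, key]
  exact congrArg _ h'

/-- Morphisms into a scheme with separated fibres agreeing on a universally schematically dense open are equal. -/
theorem hom_eq_of_universally_dense {S : Scheme.{u}} (X Y : Over S) (U : X.left.Opens)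
    (hU : ∀ (S' : Scheme.{u}) (g : S' ⟶ S), CInt.IsSchematicallyDense ((pullback.fst X.hom g) ⁻¹ᵁ U))
    (hY : ∀ s : S, IsSeparated (pullback.snd Y.hom (S.fromSpecResidueField s)))
    (f g : X ⟶ Y) (h : U.ι ≫ f.left = U.ι ≫ g.left) : f = g := by
  have hU0 : CInt.IsSchematicallyDense U := by
    have h1 := schematicallyDense_preimage (inv (pullback.fst X.hom (𝟙 S))) (hU S (𝟙 S))
    rwa [← Scheme.Hom.comp_preimage, IsIso.inv_hom_id, Scheme.Hom.id_preimage] at h1
  have hpt : ∀ x, f.left.base x = g.left.base x := by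
    intro x
    set j := S.fromSpecResidueField (X.hom.base x)
    have := hY (X.hom.base x)
    let p := pullback.fst X.hom j
    have hwf : (p ≫ f.left) ≫ Y.hom = pullback.snd X.hom j ≫ j := by
      rw [Category.assoc, Over.w f, pullback.condition]
    have hwg : (p ≫ g.left) ≫ Y.hom = pullback.snd X.hom j ≫ j := by
      rw [Category.assoc, Over.w g, pullback.condition]
    let fs := pullback.lift _ _ hwf
    let gs := pullback.lift _ _ hwg
    have hsep : IsSeparated (pullback.snd Y.hom j) := this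
    have hsnd : fs ≫ pullback.snd Y.hom j = gs ≫ pullback.snd Y.hom j :=
      (pullback.lift_snd _ _ hwf).trans (pullback.lift_snd _ _ hwg).symm
    let eq := pullback.snd (pullback.diagonal (pullback.snd Y.hom j))
      (pullback.lift fs gs hsnd)
    have : IsClosedImmersion eq :=
      MorphismProperty.of_isPullback (P := @IsClosedImmersion) (IsPullback.of_hasPullback _ _)
        hsep.isClosedImmersion_diagonal
    have hUs : (p ⁻¹ᵁ U).ι ≫ fs = (p ⁻¹ᵁ U).ι ≫ gs := by
      apply pullback.hom_ext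
      · simp only [Category.assoc, fs, gs, pullback.lift_fst]
        rw [← Category.assoc, ← morphismRestrict_ι, Category.assoc, h, ← Category.assoc, morphismRestrict_ι,
          Category.assoc]
      · simp only [Category.assoc, hsnd]
    have hd : Dense (Set.range eq.base) := (dense_of_schematicallyDense (hU _ j)).mono fun z hz =>
      ⟨(pullback.lift ((p ⁻¹ᵁ U).ι ≫ fs) (p ⁻¹ᵁ U).ι (by
          apply pullback.hom_ext <;>
            simp only [Category.assoc, pullback.diagonal_fst, pullback.diagonal_snd, pullback.lift_fst,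
              pullback.lift_snd, Category.comp_id, hUs])).base ⟨z, hz⟩, by
        exact congrArg (fun t => t.base ⟨z, hz⟩) (pullback.lift_snd (f := pullback.diagonal (pullback.snd Y.hom j))
          (g := pullback.lift fs gs hsnd) ((p ⁻¹ᵁ U).ι ≫ fs) (p ⁻¹ᵁ U).ι _)⟩
    have hcond : eq ≫ fs = eq ≫ gs := by
      have e := pullback.condition (f := pullback.diagonal (pullback.snd Y.hom j))
        (g := pullback.lift fs gs hsnd)
      have e1 := e =≫ pullback.fst _ _
      have e2 := e =≫ pullback.snd _ _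
      simp only [Category.assoc, pullback.diagonal_fst, pullback.diagonal_snd, pullback.lift_fst, pullback.lift_snd,
        Category.comp_id] at e1 e2
      exact e1.symm.trans e2
    obtain ⟨o, ho⟩ : x ∈ Set.range p.base := by
      rw [Scheme.Pullback.range_fst, Scheme.range_fromSpecResidueField]; rfl
    obtain ⟨o', rfl⟩ : o ∈ Set.range eq.base := eq.isClosedEmbedding.isClosed_range.closure_subset (hd o)
    have h1 := congrArg (fun t => (t ≫ pullback.fst Y.hom j).base o') hcond
    simp only [Category.assoc, fs, gs, pullback.lift_fst, Scheme.Hom.comp_base, TopCat.comp_app] at h1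
    rw [← ho]
    exact h1
  refine Over.OverMorphism.ext (Scheme.hom_ext_of_forall _ _ fun x => ?_)
  obtain ⟨_, ⟨V₀, hV, rfl⟩, hxV, -⟩ :=
    Y.left.isBasis_affineOpens.exists_subset_of_mem_open (Set.mem_univ (f.left.base x)) isOpen_univ
  let V : Y.left.Opens := V₀
  let W : X.left.Opens := f.left ⁻¹ᵁ V ⊓ g.left ⁻¹ᵁ V
  refine ⟨W, ⟨hxV, by change g.left.base x ∈ V; rw [← hpt]; exact hxV⟩, ?_⟩
  have : IsAffine V.toScheme := hV
  have e : f.left.resLE V W inf_le_left = g.left.resLE V W inf_le_right := by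
    refine eq_of_schematicallyDense (schematicallyDense_preimage W.ι hU0) ?_
    rw [← cancel_mono V.ι, Category.assoc, Category.assoc, Scheme.Hom.resLE_comp_ι, Scheme.Hom.resLE_comp_ι,
      ← Category.assoc, ← morphismRestrict_ι, Category.assoc, h, ← Category.assoc, morphismRestrict_ι, Category.assoc]
  have := congrArg (fun t => t ≫ V.ι) e
  simpa [Scheme.Hom.resLE_comp_ι] using this

end Groth.Agent.SGA3xLib
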