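import Groth.Agent.Desc19b.Imm
import Groth.Agent.H8Top.SchemeBasic
import Groth.Agent.CubeLib.GlobalSec
import Groth.Agent.SGA3cLib.Transporter
import Groth.Agent.SGA3cLib.BCPoints

/-! The schematic image of a quasi-compact homomorphism of groups over a field. -/

set_option autoImplicit false
set_option linter.style.haveILetI false
set_option backward.isDefEq.respectTransparency.types false

universe u

open CategoryTheory CategoryTheory.Limits MonoidalCategory CartesianMonoidalCategory MonObj GrpObj AlgebraicGeometry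

noncomputable section

namespace Groth.Agent.SGA3xLib.SchemImage26

variable {k : Type u} [Field k]

local notation "𝕊" => Spec (CommRingCat.of k)

theorem isPullback_whiskerRight {A B : Over 𝕊} (f : A ⟶ B) (X : Over 𝕊) :
    IsPullback (f ▷ X).left (fst A X).left (fst B X).left f.left := by
  refine IsPullback.of_right (h₁₂ := (snd B X).left) (v₁₃ := X.hom) (h₂₂ := B.hom) ?_ ?_
    (IsPullback.of_hasPullback B.hom X.hom).flip
  · have h1 : (f ▷ X).left ≫ (snd B X).left = (snd A X).left := by rw [← Over.comp_left, whiskerRight_snd]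
    rw [h1, Over.w f]
    exact (IsPullback.of_hasPullback A.hom X.hom).flip
  · rw [← Over.comp_left, whiskerRight_fst, Over.comp_left]

/-- Schematic dominance survives a product with a scheme over the field. -/
theorem whiskerRight_props {A B : Over 𝕊} (f : A ⟶ B) [QuasiCompact f.left] (hf : f.left.ker = ⊥) (X : Over 𝕊) :
    (f ▷ X).left.ker = ⊥ ∧ QuasiCompact (f ▷ X).left := by
  have h := (isPullback_whiskerRight f X).flip
  haveI : Flat (fst B X).left := by
    haveI : Flat X.hom := CubeLib.flat_of_field _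
    exact inferInstanceAs (Flat (pullback.fst B.hom X.hom))
  rw [← h.isoPullback_hom_snd]
  refine ⟨?_, inferInstance⟩
  rw [Scheme.Hom.ker_comp_of_isIso, Desc19b.ker_pullback_snd_of_flat, hf, Scheme.IdealSheafData.comap_bot]

theorem whiskerLeft_props {A B : Over 𝕊} (f : A ⟶ B) [QuasiCompact f.left] (hf : f.left.ker = ⊥) (X : Over 𝕊) :
    (X ◁ f).left.ker = ⊥ ∧ QuasiCompact (X ◁ f).left := by
  obtain ⟨h1, h2⟩ := whiskerRight_props f hf X
  have e : X ◁ f = (β_ X A).hom ≫ f ▷ X ≫ (β_ X B).inv := by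
    rw [← Category.assoc, ← BraidedCategory.braiding_naturality_right, Category.assoc, Iso.hom_inv_id, Category.comp_id]
  haveI := h2
  haveI : IsIso (β_ X A).hom.left := inferInstanceAs (IsIso ((Over.forget _).map (β_ X A).hom))
  haveI : IsIso (β_ X B).inv.left := inferInstanceAs (IsIso ((Over.forget _).map (β_ X B).inv))
  rw [e, Over.comp_left, Over.comp_left]
  refine ⟨?_, inferInstance⟩
  rw [Scheme.Hom.ker_comp_of_isIso, Scheme.Hom.ker_comp, h1, Scheme.IdealSheafData.map_bot]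
  exact Scheme.Hom.ker_eq_bot_of_isIso _

theorem tensor_props {A B A' B' : Over 𝕊} (f : A ⟶ B) (g : A' ⟶ B') [QuasiCompact f.left] [QuasiCompact g.left]
    (hf : f.left.ker = ⊥) (hg : g.left.ker = ⊥) : (f ⊗ₘ g).left.ker = ⊥ ∧ QuasiCompact (f ⊗ₘ g).left := by
  obtain ⟨h1, h2⟩ := whiskerRight_props f hf A'
  obtain ⟨h3, h4⟩ := whiskerLeft_props g hg B
  haveI := h2
  haveI := h4
  rw [MonoidalCategory.tensorHom_def, Over.comp_left]
  refine ⟨?_, inferInstance⟩
  rw [Scheme.Hom.ker_comp, h1, Scheme.IdealSheafData.map_bot, h3]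

/-- A morphism factors through a closed subscheme if it does after a schematically dominant morphism. -/
theorem exists_factor {Y X Z G : Over 𝕊} (e : Y ⟶ X) (he : e.left.ker = ⊥) (g : X ⟶ G) (i : Z ⟶ G)
    [IsClosedImmersion i.left] (c : Y ⟶ Z) (hc : c ≫ i = e ≫ g) : ∃ z : X ⟶ Z, z ≫ i = g := by
  have hle : i.left.ker ≤ g.left.ker := by
    have h1 : (e.left ≫ g.left).ker = g.left.ker := by
      rw [Scheme.Hom.ker_comp, he, Scheme.IdealSheafData.map_bot]
    rw [← h1, ← Over.comp_left, ← hc, Over.comp_left]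
    exact Scheme.Hom.le_ker_comp _ _
  exact ⟨Over.homMk (IsClosedImmersion.lift i.left g.left hle) (by
    rw [← Over.w i, ← Category.assoc, IsClosedImmersion.lift_fac, Over.w g]),
    Over.OverMorphism.ext (IsClosedImmersion.lift_fac _ _ _)⟩

theorem isDominant_of_ker {X Y : Scheme.{u}} (f : X ⟶ Y) [QuasiCompact f] (hf : f.ker = ⊥) : IsDominant f := by
  have h := Scheme.Hom.support_ker f
  rw [hf, Scheme.IdealSheafData.support_bot] at h
  exact ⟨dense_iff_closure_eq.mpr h.symm⟩

theorem exists_maximal (X : Scheme.{u}) (x : X) : ∃ ζ : X, ∀ y, y ⤳ ζ → y = ζ := by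
  obtain ⟨U, hU, hx, -⟩ := exists_isAffineOpen_mem_and_subset (U := ⊤) (x := x) trivial
  obtain ⟨p, hp, -⟩ := Ideal.exists_minimalPrimes_le (show (⊥ : Ideal Γ(X, U)) ≤ (hU.primeIdealOf ⟨x, hx⟩).asIdeal from bot_le)
  let P : PrimeSpectrum Γ(X, U) := ⟨p, hp.1.1⟩
  refine ⟨hU.fromSpec.base P, fun y hy => ?_⟩
  have hyU : y ∈ U := hy.mem_open U.isOpen (by
    have : hU.fromSpec.base P ∈ Set.range hU.fromSpec.base := ⟨P, rfl⟩
    rwa [hU.range_fromSpec] at this)
  obtain ⟨q, rfl⟩ : y ∈ Set.range hU.fromSpec.base := by rw [hU.range_fromSpec]; exact hyU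
  have hq := hU.fromSpec.isOpenEmbedding.isInducing.specializes_iff.mp hy
  replace hq : q.asIdeal ≤ p := (PrimeSpectrum.le_iff_specializes q P).mpr hq
  exact congrArg _ (PrimeSpectrum.ext (le_antisymm hq (hp.2 ⟨q.isPrime, bot_le⟩ hq)))

/-- A quasi-compact schematically dominant homomorphism over a field is surjective. -/
theorem surjective_of_ker {H Q : Over 𝕊} [GrpObj H] [GrpObj Q] (f : H ⟶ Q) [IsMonHom f] [QuasiCompact f.left]
    (hf : f.left.ker = ⊥) : Surjective f.left := by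
  refine ⟨fun z => ?_⟩
  let Z : Over 𝕊 := Over.mk (Q.left.fromSpecResidueField z ≫ Q.hom)
  let zpt : Z ⟶ Q := Over.homMk (Q.left.fromSpecResidueField z) rfl
  let t : Q ⊗ Z ⟶ Q ⊗ Z := lift (fst Q Z * (snd Q Z ≫ zpt)) (snd Q Z)
  let t' : Q ⊗ Z ⟶ Q ⊗ Z := lift (fst Q Z * (snd Q Z ≫ zpt)⁻¹) (snd Q Z)
  have htt : t ≫ t' = 𝟙 _ := by
    apply CartesianMonoidalCategory.hom_ext
    · simp only [t, t', Category.assoc, lift_fst, MonObj.comp_mul, GrpObj.comp_inv, lift_snd_assoc, Category.id_comp]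
      group
    · simp [t, t']
  have ht't : t' ≫ t = 𝟙 _ := by
    apply CartesianMonoidalCategory.hom_ext
    · simp only [t, t', Category.assoc, lift_fst, MonObj.comp_mul, GrpObj.comp_inv, lift_snd_assoc, Category.id_comp]
      group
    · simp [t, t']
  haveI : IsIso t := ⟨t', htt, ht't⟩
  haveI : IsIso t.left := inferInstanceAs (IsIso ((Over.forget _).map t))
  let g : H ⊗ Z ⟶ Q ⊗ Z := f ▷ Z
  obtain ⟨hg1, hg2⟩ := whiskerRight_props f hf Z
  haveI : QuasiCompact g.left := hg2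
  haveI : IsDominant g.left := isDominant_of_ker _ hg1
  obtain ⟨h₀⟩ : Nonempty H.left := ⟨(MonObj.one (X := H)).left.base (IsLocalRing.closedPoint k)⟩
  obtain ⟨x₀, -⟩ := Scheme.Pullback.exists_preimage_pullback (f := Q.hom) (g := Z.hom) (f.left.base h₀)
    (IsLocalRing.closedPoint (Q.left.residueField z)) (Subsingleton.elim _ _)
  obtain ⟨ζ, hη⟩ := exists_maximal (Q ⊗ Z).left x₀
  have hmem : ∀ p : ↥(Q ⊗ Z).left, (∀ y, y ⤳ p → y = p) → p ∈ Set.range g.left.base := fun p hp => by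
    obtain ⟨a, ha⟩ := H8Top.exists_specializes_of_mem_closure_range g.left (y := p)
      (by rw [g.left.denseRange.closure_range]; trivial)
    exact ⟨a, hp _ ha⟩
  have hη' : ∀ y, y ⤳ t.left.base ζ → y = t.left.base ζ := fun y hy => by
    obtain ⟨w, rfl⟩ := t.left.homeomorph.surjective y
    exact congrArg _ (hη w (t.left.homeomorph.isInducing.specializes_iff.mp hy))
  obtain ⟨a, ha⟩ := hmem _ hη'
  obtain ⟨b, hb⟩ := hmem _ hη
  obtain ⟨w, -, -⟩ := Scheme.Pullback.exists_preimage_pullback (f := g.left) (g := (g ≫ t).left) a b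
    (by rw [Over.comp_left, Scheme.Hom.comp_apply, hb]; exact ha)
  let W : Over 𝕊 := Over.mk (pullback.fst g.left (g ≫ t).left ≫ (H ⊗ Z).hom)
  let pa : W ⟶ H ⊗ Z := Over.homMk (pullback.fst g.left (g ≫ t).left) rfl
  let pb : W ⟶ H ⊗ Z := Over.homMk (pullback.snd g.left (g ≫ t).left) (by
    show pullback.snd g.left (g ≫ t).left ≫ _ = pullback.fst g.left (g ≫ t).left ≫ _
    rw [← Over.w g, pullback.condition_assoc, Over.w (g ≫ t), Over.w g])
  have hab : pa ≫ g = pb ≫ g ≫ t := Over.OverMorphism.ext pullback.condition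
  have h1 := congrArg (· ≫ fst Q Z) hab
  simp only [g, t, Category.assoc, whiskerRight_fst, lift_fst, MonObj.comp_mul, whiskerRight_snd_assoc] at h1
  have h2 : ((pb ≫ fst H Z)⁻¹ * (pa ≫ fst H Z)) ≫ f = pb ≫ snd H Z ≫ zpt := by
    rw [MonObj.mul_comp, GrpObj.inv_comp, Category.assoc, Category.assoc, h1]
    group
  refine ⟨((pb ≫ fst H Z)⁻¹ * (pa ≫ fst H Z)).left.base w, ?_⟩
  rw [← Scheme.Hom.comp_apply, ← Over.comp_left, h2, Over.comp_left, Scheme.Hom.comp_apply, Over.comp_left,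
    Scheme.Hom.comp_apply]
  exact Scheme.fromSpecResidueField_apply _ _

theorem exists_image {H G : Over 𝕊} [GrpObj H] [GrpObj G] (f : H ⟶ G) [IsMonHom f] [QuasiCompact f.left] :
    ∃ (H' : Over 𝕊) (_ : GrpObj H') (i : H' ⟶ G) (f' : H ⟶ H'),
      IsMonHom i ∧ IsMonHom f' ∧ f' ≫ i = f ∧ IsClosedImmersion i.left ∧
      f'.left.ker = ⊥ ∧ QuasiCompact f'.left ∧ Surjective f'.left := by
  let H' : Over 𝕊 := Over.mk (f.left.imageι ≫ G.hom)
  let i : H' ⟶ G := Over.homMk f.left.imageι rfl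
  let f' : H ⟶ H' := Over.homMk f.left.toImage (by
    show f.left.toImage ≫ f.left.imageι ≫ G.hom = H.hom
    rw [Scheme.Hom.toImage_imageι_assoc, Over.w f])
  have hf' : f' ≫ i = f := Over.OverMorphism.ext f.left.toImage_imageι
  haveI : IsClosedImmersion i.left := inferInstanceAs (IsClosedImmersion f.left.imageι)
  haveI : Mono i := Over.mono_of_mono_left i
  haveI : QuasiCompact f'.left := inferInstanceAs (QuasiCompact f.left.toImage)
  have hk : f'.left.ker = ⊥ := by
    haveI : IsSchemeTheoreticallyDominant f.left.toImage := AlgSpLib.isSchemeTheoreticallyDominant_toImage f.left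
    exact Scheme.Hom.ker_eq_bot f.left.toImage
  obtain ⟨h2k, -⟩ := tensor_props f' f' hk hk
  obtain ⟨m, hm⟩ := exists_factor (f' ⊗ₘ f') h2k ((fst H' H' ≫ i) * (snd H' H' ≫ i)) i
    ((fst H H * snd H H) ≫ f') (by
      rw [Category.assoc, hf', MonObj.mul_comp, MonObj.comp_mul, tensorHom_fst_assoc, tensorHom_snd_assoc, hf'])
  obtain ⟨v, hv⟩ := exists_factor f' hk (i⁻¹) i (ι[H] ≫ f') (by
    rw [Category.assoc, hf', GrpObj.comp_inv, hf', GrpObj.inv_eq_inv, GrpObj.inv_comp, Category.id_comp])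
  obtain ⟨hH', hi⟩ := SGA3cLib.exists_grpObj_of_subgroup i
    (fun T => ⟨(1 : T ⟶ H) ≫ f', by rw [Category.assoc, hf', MonObj.one_comp]⟩)
    (fun T a b => ⟨lift a b ≫ m, by rw [Category.assoc, hm, MonObj.comp_mul, lift_fst_assoc, lift_snd_assoc]⟩)
    (fun T a => ⟨a ≫ v, by rw [Category.assoc, hv, GrpObj.comp_inv]⟩)
  haveI := hi
  haveI : IsMonHom f' := SGA3cLib.BCPoints.isMonHom_of_mul f' fun X x y => by
    rw [← cancel_mono i, Category.assoc, hf', MonObj.mul_comp, MonObj.mul_comp, Category.assoc, hf', Category.assoc, hf']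
  exact ⟨H', hH', i, f', hi, inferInstance, hf', inferInstance, hk, inferInstance, surjective_of_ker f' hk⟩

end Groth.Agent.SGA3xLib.SchemImage26
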