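import Groth.Agent.SGA3xLib.GenericTransporter26
import Groth.Agent.H8Lim.StalkLimit
import Groth.Agent.H8Lim.Descent
import Groth.Agent.GrpLim26.Quotient
import Groth.Agent.SGA3cLib.MonoClosed
import Groth.Prelude.Def_Red2

/-! Subgroups over an integral base: generically closed, with centraliser and normaliser. -/

set_option autoImplicit false
set_option linter.style.haveILetI false
set_option backward.isDefEq.respectTransparency.types false

universe u

open CategoryTheory CategoryTheory.Limits MonoidalCategory CartesianMonoidalCategory MonObj GrpObj AlgebraicGeometry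

namespace Groth.Agent.SGA3xLib.GenericSubgroup26

theorem prop_map_comp {P : MorphismProperty Scheme.{u}} [P.IsStableUnderBaseChange] [P.RespectsIso]
    {S T T' : Scheme.{u}} {p : T ⟶ S} (e : T' ⟶ T) {q : T' ⟶ S} (h : e ≫ p = q) {X Y : Over S} (m : X ⟶ Y)
    (hm : P ((Over.pullback p).map m).left) : P ((Over.pullback q).map m).left :=
  GrpLim26.prop_natIso (F := Over.pullback p ⋙ Over.pullback e) (GrpLim26.cmpNat h) (f := m)
    (MorphismProperty.of_isPullback (P := P) (SGA3UnitSec.isPullback_map_left e ((Over.pullback p).map m)) hm)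

/-- A monomorphism of finitely presented groups over an integral base is generically a closed immersion. -/
theorem exists_closed_open {S : Scheme.{u}} [IsIntegral S] {G H : Over S} [GrpObj G] [GrpObj H]
    [LocallyOfFinitePresentation G.hom] [QuasiCompact G.hom] [QuasiSeparated G.hom]
    [LocallyOfFinitePresentation H.hom] [QuasiCompact H.hom] [QuasiSeparated H.hom]
    (i : H ⟶ G) [IsMonHom i] [Mono i] [QuasiCompact i.left] :
    ∃ W : S.Opens, genericPoint S ∈ W ∧ IsClosedImmersion ((Over.pullback W.ι).map i).left := by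
  obtain ⟨U₀, hU₀, hη, -⟩ := exists_isAffineOpen_mem_and_subset (U := (⊤ : S.Opens)) (x := genericPoint S) trivial
  let V₀ : H8Lim.StalkLimit.AffNhd (genericPoint S) := ⟨U₀, hU₀, hη⟩
  let D := H8Lim.StalkLimit.diagram (genericPoint S)
  let c := H8Lim.StalkLimit.cone (genericPoint S)
  have hc : IsLimit c := H8Lim.StalkLimit.isLimitCone (genericPoint S)
  haveI : ∀ {V V' : H8Lim.StalkLimit.AffNhd (genericPoint S)} (f : V ⟶ V'), IsAffineHom (D.map f) := fun {V V'} f => inferInstance
  let p₀ : D.obj V₀ ⟶ S := H8Lim.StalkLimit.incMap (genericPoint S) V₀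
  let i₀ := (Over.pullback p₀).map i
  let s : Spec (CommRingCat.of S.functionField) ⟶ S := S.fromSpecStalk (genericPoint S)
  have hcl : IsClosedImmersion ((Over.pullback s).map i).left := by
    let K : Type u := S.functionField
    haveI : LocallyOfFiniteType (Red.bc s G).hom := inferInstanceAs (LocallyOfFiniteType (pullback.snd G.hom s))
    haveI : LocallyOfFiniteType (Red.bc s H).hom := inferInstanceAs (LocallyOfFiniteType (pullback.snd H.hom s))
    haveI : QuasiCompact ((Over.pullback s).map i).left :=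
      MorphismProperty.of_isPullback (P := @QuasiCompact) (SGA3UnitSec.isPullback_map_left s i) ‹_›
    haveI : IsMonHom ((Over.pullback s).map i : Red.bc s H ⟶ Red.bc s G) := inferInstance
    haveI : Mono ((Over.pullback s).map i : Red.bc s H ⟶ Red.bc s G) := inferInstance
    exact SGA3cLib.isClosedImmersion_of_mono (k := K) (G := Red.bc s H) (H := Red.bc s G) ((Over.pullback s).map i)
  have hcl₀ : IsClosedImmersion ((Over.pullback (c.π.app V₀)).map i₀).left :=
    GrpLim26.prop_natIso (P := @IsClosedImmersion)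
      (GrpLim26.cmpNat (H8Lim.StalkLimit.cone_incMap (genericPoint S) V₀)).symm (f := i) hcl
  haveI : LocallyOfFinitePresentation (Red.bc p₀ H).hom := inferInstanceAs (LocallyOfFinitePresentation (pullback.snd H.hom p₀))
  haveI : QuasiCompact (Red.bc p₀ G).hom := inferInstanceAs (QuasiCompact (pullback.snd G.hom p₀))
  haveI : QuasiSeparated (Red.bc p₀ G).hom := inferInstanceAs (QuasiSeparated (pullback.snd G.hom p₀))
  haveI : QuasiSeparated (Red.bc p₀ H).hom := inferInstanceAs (QuasiSeparated (pullback.snd H.hom p₀))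
  haveI : LocallyOfFiniteType (Red.bc p₀ H).hom := inferInstanceAs (LocallyOfFiniteType (pullback.snd H.hom p₀))
  haveI : LocallyOfFiniteType i₀.left := by
    haveI : LocallyOfFiniteType (i₀.left ≫ (Red.bc p₀ G).hom) := by rw [Over.w i₀]; infer_instance
    exact locallyOfFiniteType_of_comp i₀.left (Red.bc p₀ G).hom
  haveI : QuasiCompact i₀.left :=
    MorphismProperty.of_isPullback (P := @QuasiCompact) (SGA3UnitSec.isPullback_map_left p₀ i) ‹_›
  haveI : QuasiSeparated i₀.left := by
    haveI : QuasiSeparated (i₀.left ≫ (Red.bc p₀ G).hom) := by rw [Over.w i₀]; infer_instance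
    exact QuasiSeparated.of_comp i₀.left (Red.bc p₀ G).hom
  haveI : IsAffine (D.obj V₀) := inferInstanceAs (IsAffine (Spec _))
  haveI : CompactSpace (Red.bc p₀ G).left := QuasiCompact.compactSpace_of_compactSpace (Red.bc p₀ G).hom
  obtain ⟨V, φ, _, _, _, _, _, _, a1, b1, c1⟩ := H8Lim.Descends.exists_stage H8Lim.descends_isClosedImmersion hc
    (IsPullback.of_hasPullback (Red.bc p₀ G).hom (c.π.app V₀)) (SGA3UnitSec.isPullback_map_left (c.π.app V₀) i₀)
    (inferInstance : LocallyOfFiniteType i₀.left) hcl₀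
  have h1 := GrpLim26.prop_map_left φ i₀ a1 b1 c1
  have h2 : IsClosedImmersion ((Over.pullback (V.2.1.fromSpec)).map i).left :=
    GrpLim26.prop_natIso (P := @IsClosedImmersion) (F := Over.pullback p₀ ⋙ Over.pullback (D.map φ))
      (GrpLim26.cmpNat (H8Lim.StalkLimit.map_incMap (genericPoint S) φ)) (f := i) h1
  exact ⟨V.1, V.2.2, prop_map_comp (P := @IsClosedImmersion) V.2.1.isoSpec.hom V.2.1.isoSpec_hom_fromSpec i h2⟩

/-- Generically, the centraliser and the normaliser are closed subgroups of finite presentation. -/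
theorem exists_main {S : Scheme.{u}} [IsIntegral S] (G H : Over S) [GrpObj G] [GrpObj H]
    [LocallyOfFinitePresentation G.hom] [QuasiCompact G.hom] [QuasiSeparated G.hom]
    [LocallyOfFinitePresentation H.hom] [QuasiCompact H.hom] [QuasiSeparated H.hom]
    (i : H ⟶ G) [IsMonHom i] [Mono i] [QuasiCompact i.left] :
    ∃ U : S.Opens, (U : Set S).Nonempty ∧ IsClosedImmersion ((Over.pullback U.ι).map i).left ∧
      ∃ (C N : Over (U : Scheme.{u})) (_ : GrpObj C) (_ : GrpObj N) (c : C ⟶ Red.bc U.ι G) (n : N ⟶ Red.bc U.ι G),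
        Red.IsCentralizerOf ((Over.pullback U.ι).map i) c ∧ IsClosedImmersion c.left ∧
          LocallyOfFinitePresentation C.hom ∧ QuasiCompact C.hom ∧
        Red.IsNormalizerOf ((Over.pullback U.ι).map i) n ∧ IsClosedImmersion n.left ∧
          LocallyOfFinitePresentation N.hom ∧ QuasiCompact N.hom := by
  obtain ⟨W, hW, hcl⟩ := exists_closed_open i
  obtain ⟨U, hU, hUW, hsep, hfree⟩ := GenericTransporter26.exists_transporter_open G H W hW
  let GU := Red.bc U.ι G
  let HU := Red.bc U.ι H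
  let j : HU ⟶ GU := (Over.pullback U.ι).map i
  haveI hclU : IsClosedImmersion j.left := prop_map_comp (P := @IsClosedImmersion) (S.homOfLE hUW) (S.homOfLE_ι hUW) i hcl
  haveI := hsep
  haveI : QuasiCompact HU.hom := inferInstanceAs (QuasiCompact (pullback.snd H.hom U.ι))
  haveI : LocallyOfFiniteType GU.hom := inferInstanceAs (LocallyOfFiniteType (pullback.snd G.hom U.ι))
  haveI : LocallyOfFinitePresentation GU.hom := inferInstanceAs (LocallyOfFinitePresentation (pullback.snd G.hom U.ι))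
  haveI : LocallyOfFinitePresentation HU.hom := inferInstanceAs (LocallyOfFinitePresentation (pullback.snd H.hom U.ι))
  haveI : QuasiCompact GU.hom := inferInstanceAs (QuasiCompact (pullback.snd G.hom U.ι))
  have hjfp : LocallyOfFinitePresentation j.left := by
    haveI : LocallyOfFinitePresentation (j.left ≫ GU.hom) := by rw [Over.w j]; infer_instance
    exact H8Lim.lfp_cancel_right j.left GU.hom
  -- the centraliser
  obtain ⟨C, c, hc, hcfp, hC⟩ := GenericTransporter26.exists_eq_fp (P := GU) hfree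
    (snd HU GU * (fst HU GU ≫ j)) ((fst HU GU ≫ j) * snd HU GU)
  haveI := hc
  haveI := hcfp
  haveI : Mono c := Over.mono_of_mono_left c
  have keyC : ∀ (X : Over (U : Scheme.{u})) (g : X ⟶ GU), (∃ z : X ⟶ C, z ≫ c = g) ↔
      ∀ (X' : Over (U : Scheme.{u})) (x : X' ⟶ X) (h : X' ⟶ HU), (x ≫ g) * (h ≫ j) = (h ≫ j) * (x ≫ g) := fun X g =>
    (hC X g).trans (forall₃_congr fun X' x h => by
      simp only [MonObj.comp_mul]
      rw [show lift h (x ≫ g) ≫ snd HU GU = x ≫ g from lift_snd _ _,
        show lift h (x ≫ g) ≫ fst HU GU ≫ j = h ≫ j from lift_fst_assoc _ _ _])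
  obtain ⟨gC, hmC⟩ := SGA3cLib.exists_grpObj_of_subgroup c
    (fun T => (keyC T 1).2 fun X' x h => by rw [MonObj.comp_one]; simp)
    (fun T a b => (keyC T _).2 fun X' x h => by
      have ha : Commute (x ≫ a ≫ c) (h ≫ j) := (keyC T _).1 ⟨a, rfl⟩ X' x h
      have hb : Commute (x ≫ b ≫ c) (h ≫ j) := (keyC T _).1 ⟨b, rfl⟩ X' x h
      rw [MonObj.comp_mul]; exact ha.mul_left hb)
    (fun T a => (keyC T _).2 fun X' x h => by
      have ha : Commute (x ≫ a ≫ c) (h ≫ j) := (keyC T _).1 ⟨a, rfl⟩ X' x h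
      rw [GrpObj.comp_inv]; exact ha.inv_left)
  -- the normaliser
  haveI : QuasiCompact (snd HU GU).left := inferInstanceAs (QuasiCompact (pullback.snd HU.hom GU.hom))
  have hpure : SGA3cLib.TransporterFP.Pure (snd HU GU).left :=
    SGA3cLib.TransporterFP.pure_of_essentiallyFree (S5356.essentiallyFree_baseChange HU.hom GU.hom hfree : _)
  obtain ⟨T₁, t₁, ht₁, ht₁fp, hT₁⟩ := SGA3cLib.TransporterFP.exists_transporter hpure
    (snd HU GU * (fst HU GU ≫ j) * (snd HU GU)⁻¹) j
  obtain ⟨T₂, t₂, ht₂, ht₂fp, hT₂⟩ := SGA3cLib.TransporterFP.exists_transporter hpure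
    ((snd HU GU)⁻¹ * (fst HU GU ≫ j) * snd HU GU) j
  haveI := ht₁fp hjfp
  haveI := ht₂fp hjfp
  let N : Over (U : Scheme.{u}) := Over.mk ((pullback.fst t₁.left t₂.left ≫ t₁.left) ≫ GU.hom)
  let n : N ⟶ GU := Over.homMk (pullback.fst t₁.left t₂.left ≫ t₁.left) rfl
  haveI : IsClosedImmersion (pullback.fst t₁.left t₂.left) :=
    MorphismProperty.pullback_fst (P := @IsClosedImmersion) _ _ inferInstance
  haveI : IsClosedImmersion n.left := inferInstanceAs (IsClosedImmersion (pullback.fst t₁.left t₂.left ≫ t₁.left))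
  haveI : LocallyOfFinitePresentation n.left := inferInstanceAs (LocallyOfFinitePresentation (pullback.fst t₁.left t₂.left ≫ t₁.left))
  haveI : Mono n := Over.mono_of_mono_left n
  have hN : ∀ (X : Over (U : Scheme.{u})) (g : X ⟶ GU), (∃ z : X ⟶ N, z ≫ n = g) ↔
      (∃ z : X ⟶ T₁, z ≫ t₁ = g) ∧ (∃ z : X ⟶ T₂, z ≫ t₂ = g) := by
    intro X g
    constructor
    · rintro ⟨z, rfl⟩
      refine ⟨⟨Over.homMk (z.left ≫ pullback.fst t₁.left t₂.left) (by
          have := Over.w z; simp only [N, Over.mk_hom, Category.assoc, Over.w t₁] at this; simpa using this), ?_⟩,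
        ⟨Over.homMk (z.left ≫ pullback.snd t₁.left t₂.left) (by
          have := Over.w z; simp only [N, Over.mk_hom, pullback.condition_assoc, Category.assoc, Over.w t₂] at this; simpa using this), ?_⟩⟩
      · exact Over.OverMorphism.ext (by simp [n])
      · exact Over.OverMorphism.ext (by simp [n, pullback.condition])
    · rintro ⟨⟨z₁, h₁⟩, ⟨z₂, h₂⟩⟩
      have e₁ : z₁.left ≫ t₁.left = g.left := congrArg CommaMorphism.left h₁
      have e₂ : z₂.left ≫ t₂.left = g.left := congrArg CommaMorphism.left h₂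
      refine ⟨Over.homMk (pullback.lift z₁.left z₂.left (e₁.trans e₂.symm)) ?_, ?_⟩
      · show pullback.lift _ _ _ ≫ (_ ≫ t₁.left) ≫ GU.hom = _
        rw [← Category.assoc, pullback.lift_fst_assoc, e₁]
        exact Over.w g
      · apply Over.OverMorphism.ext
        show pullback.lift _ _ _ ≫ _ ≫ t₁.left = g.left
        rw [pullback.lift_fst_assoc, e₁]
  have key : ∀ (X : Over (U : Scheme.{u})) (g : X ⟶ GU), (∃ z : X ⟶ N, z ≫ n = g) ↔
      ∀ (X' : Over (U : Scheme.{u})) (x : X' ⟶ X) (a : X' ⟶ HU),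
        (∃ a' : X' ⟶ HU, (x ≫ g) * (a ≫ j) * (x ≫ g)⁻¹ = a' ≫ j) ∧
        (∃ a' : X' ⟶ HU, (x ≫ g)⁻¹ * (a ≫ j) * (x ≫ g) = a' ≫ j) := by
    intro X g
    rw [hN, hT₁, hT₂]
    have e1 : ∀ {X' : Over (U : Scheme.{u})} (y : X' ⟶ GU) (a : X' ⟶ HU), lift a y ≫ snd HU GU = y := fun y a => lift_snd a y
    have e2 : ∀ {X' : Over (U : Scheme.{u})} (y : X' ⟶ GU) (a : X' ⟶ HU), lift a y ≫ fst HU GU ≫ j = a ≫ j :=
      fun y a => lift_fst_assoc a y j
    simp only [MonObj.comp_mul, GrpObj.comp_inv, e1, e2]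
    exact ⟨fun hh X' x a => ⟨hh.1 X' x a, hh.2 X' x a⟩,
      fun hh => ⟨fun X' x a => (hh X' x a).1, fun X' x a => (hh X' x a).2⟩⟩
  obtain ⟨gN, hmN⟩ := SGA3cLib.exists_grpObj_of_subgroup n
    (fun X => (key X 1).2 fun X' x a => ⟨⟨a, by simp⟩, ⟨a, by simp⟩⟩)
    (fun X a b => (key X _).2 fun X' x c => by
      have ha := fun c => (key X _).1 ⟨a, rfl⟩ X' x c
      have hb := fun c => (key X _).1 ⟨b, rfl⟩ X' x c
      constructor
      · obtain ⟨c₁, e₁⟩ := (hb c).1
        obtain ⟨c₂, e₂⟩ := (ha c₁).1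
        exact ⟨c₂, by rw [← e₂, ← e₁, MonObj.comp_mul]; group⟩
      · obtain ⟨c₁, e₁⟩ := (ha c).2
        obtain ⟨c₂, e₂⟩ := (hb c₁).2
        exact ⟨c₂, by rw [← e₂, ← e₁, MonObj.comp_mul]; group⟩)
    (fun X a => (key X _).2 fun X' x c => by
      have ha := (key X _).1 ⟨a, rfl⟩ X' x c
      rw [GrpObj.comp_inv, _root_.inv_inv]
      exact ⟨ha.2, ha.1⟩)
  exact ⟨U, hU, hclU, C, N, gC, gN, c, n, ⟨hmC, inferInstance, keyC⟩, hc,
    by rw [← Over.w c]; infer_instance, by rw [← Over.w c]; infer_instance,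
    ⟨hmN, inferInstance, key⟩, inferInstance, by rw [← Over.w n]; infer_instance, by rw [← Over.w n]; infer_instance⟩

end Groth.Agent.SGA3xLib.GenericSubgroup26
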