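import Groth.Agent.SGA3cLib.TransporterFP
import Groth.Agent.SGA3cLib.Separated
import Groth.Agent.H8Top.SchemeBasic
import Groth.Agent.H8Lim.FinitePresentation
import Groth.Agent.EGA43.FlatDescent.GenFreeGeneral
import Groth.Agent.AlgGrpLib.CentreRep

/-! Transporters of finitely presented families exist generically on an integral base. -/

set_option autoImplicit false
set_option linter.style.haveILetI false
set_option backward.isDefEq.respectTransparency.types false

universe u

open CategoryTheory CategoryTheory.Limits MonoidalCategory CartesianMonoidalCategory MonObj GrpObj AlgebraicGeometry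
open scoped TensorProduct

noncomputable section

namespace Groth.Agent.SGA3xLib.GenericTransporter26

/-- Generic freeness gives essential freeness away from the bad locus. -/
theorem isEssentiallyFree_of_free {Z S Y B : Scheme.{u}} [IsAffine B] {p : Z ⟶ Y} {f : Z ⟶ S} {q : Y ⟶ B}
    {b : S ⟶ B} (h : IsPullback p f q b) (r : Γ(B, ⊤)) (hr : IsUnit (b.appTop r))
    (hY : ∀ y : Y, ∃ (V : Y.Opens), y ∈ V ∧ IsAffineOpen V ∧
      (letI := (V.ι ≫ q).appTop.hom.toAlgebra
       Module.Free (Localization.Away r) (Localization.Away r ⊗[Γ(B, ⊤)] Γ(↑V, ⊤)))) :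
    SGA3x.IsEssentiallyFree f := by
  intro s
  obtain ⟨_, ⟨U, hU, rfl⟩, hsU, -⟩ := S.isBasis_affineOpens.exists_subset_of_mem_open (Set.mem_univ s) isOpen_univ
  replace hU : IsAffineOpen U := hU
  refine ⟨U, hsU, hU, (Scheme.Opens.toScheme U), hU, 𝟙 _, inferInstance, inferInstance, fun x => ?_⟩
  let bU := (𝟙 (Scheme.Opens.toScheme U) ≫ (Scheme.Opens.ι U))
  let P := pullback f bU
  let p' : P ⟶ Y := pullback.fst f bU ≫ p
  obtain ⟨V, hxV, hV, hfree⟩ := hY (p' x)
  let W : P.Opens := p' ⁻¹ᵁ V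
  have hb : IsPullback p' (pullback.snd f bU) q (bU ≫ b) :=
    (IsPullback.of_hasPullback f bU).paste_horiz h
  have hW : IsPullback (p' ∣_ V) ((Scheme.Opens.ι W) ≫ pullback.snd f bU) ((Scheme.Opens.ι V) ≫ q) (bU ≫ b) :=
    (isPullback_morphismRestrict p' V).paste_vert hb
  have : IsAffine (Scheme.Opens.toScheme U) := hU
  have : IsAffine (Scheme.Opens.toScheme V) := hV
  have hWaff : IsAffine (Scheme.Opens.toScheme W) := .of_isIso hW.isoPullback.hom
  refine ⟨W, hxV, hWaff, ?_⟩
  have hp := isPushout_appTop_of_isPullback hW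
  let R0 : CommRingCat.{u} := Γ(B, ⊤)
  letI : Algebra R0 Γ((Scheme.Opens.toScheme U), ⊤) := (bU ≫ b).appTop.hom.toAlgebra
  letI : Algebra R0 Γ((Scheme.Opens.toScheme V), ⊤) := ((Scheme.Opens.ι V) ≫ q).appTop.hom.toAlgebra
  letI := ((Scheme.Opens.ι W) ≫ pullback.snd f bU).appTop.hom.toAlgebra
  letI : Algebra Γ((Scheme.Opens.toScheme V), ⊤) Γ((Scheme.Opens.toScheme W), ⊤) := (p' ∣_ V).appTop.hom.toAlgebra
  letI : Algebra R0 Γ((Scheme.Opens.toScheme W), ⊤) :=
    ((bU ≫ b).appTop ≫ ((Scheme.Opens.ι W) ≫ pullback.snd f bU).appTop).hom.toAlgebra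
  have : IsScalarTower R0 Γ((Scheme.Opens.toScheme U), ⊤) Γ((Scheme.Opens.toScheme W), ⊤) := IsScalarTower.of_algebraMap_eq fun _ => rfl
  have : IsScalarTower R0 Γ((Scheme.Opens.toScheme V), ⊤) Γ((Scheme.Opens.toScheme W), ⊤) := IsScalarTower.of_algebraMap_eq fun r => by
    exact (congrArg (fun φ : R0 ⟶ Γ((Scheme.Opens.toScheme W), ⊤) => φ.hom r) hp.w).symm
  have hpo : Algebra.IsPushout R0 Γ((Scheme.Opens.toScheme U), ⊤) Γ((Scheme.Opens.toScheme V), ⊤) Γ((Scheme.Opens.toScheme W), ⊤) :=
    CommRingCat.isPushout_iff_isPushout.mp hp.flip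
  have hru : IsUnit (algebraMap R0 Γ((Scheme.Opens.toScheme U), ⊤) r) := by
    show IsUnit ((bU ≫ b).appTop r)
    rw [Scheme.Hom.comp_appTop]
    exact hr.map bU.appTop.hom
  let φ : Localization.Away r →+* Γ((Scheme.Opens.toScheme U), ⊤) :=
    IsLocalization.Away.lift r (g := algebraMap R0 Γ((Scheme.Opens.toScheme U), ⊤)) hru
  letI := φ.toAlgebra
  haveI : IsScalarTower R0 (Localization.Away r) Γ((Scheme.Opens.toScheme U), ⊤) :=
    .of_algebraMap_eq fun c => (IsLocalization.Away.lift_eq r _ c).symm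
  haveI : Module.Free (Localization.Away r) (Localization.Away r ⊗[R0] Γ((Scheme.Opens.toScheme V), ⊤)) := hfree
  haveI : Module.Free Γ((Scheme.Opens.toScheme U), ⊤) (Γ((Scheme.Opens.toScheme U), ⊤) ⊗[R0] Γ((Scheme.Opens.toScheme V), ⊤)) :=
    .of_equiv (TensorProduct.AlgebraTensorModule.cancelBaseChange R0 (Localization.Away r)
      Γ((Scheme.Opens.toScheme U), ⊤) Γ((Scheme.Opens.toScheme U), ⊤) Γ((Scheme.Opens.toScheme V), ⊤))
  exact Module.Projective.of_equiv hpo.out.equiv

/-- A finitely presented scheme over an integral affine base is essentially free over a basic open. -/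
theorem exists_free_element {B Y : Scheme.{u}} [IsAffine B] [IsIntegral B] (q : Y ⟶ B) [LocallyOfFinitePresentation q]
    [QuasiCompact q] :
    ∃ r : Γ(B, ⊤), r ≠ 0 ∧ ∀ r', r ∣ r' → ∀ y : Y, ∃ (V : Y.Opens), y ∈ V ∧ IsAffineOpen V ∧
      (letI := (V.ι ≫ q).appTop.hom.toAlgebra
       Module.Free (Localization.Away r') (Localization.Away r' ⊗[Γ(B, ⊤)] Γ(↑V, ⊤))) := by
  classical
  haveI : CompactSpace Y := QuasiCompact.compactSpace_of_compactSpace q
  obtain ⟨σ, hσ⟩ : ∃ σ : Finset Y.affineOpens, (⊤ : Set Y) ⊆ ⋃ V ∈ σ, (V.1 : Set Y) := by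
    refine isCompact_univ.elim_finite_subcover (fun V : Y.affineOpens => (V.1 : Set Y)) (fun V => V.1.isOpen) fun x _ => ?_
    obtain ⟨V, hV, hx, -⟩ := exists_isAffineOpen_mem_and_subset (U := ⊤) (x := x) trivial
    exact Set.mem_iUnion.mpr ⟨⟨V, hV⟩, hx⟩
  have hfree : ∀ V : Y.affineOpens, letI := (V.1.ι ≫ q).appTop.hom.toAlgebra
      EGA43.GenFree.GFree Γ(B, ⊤) Γ(↑V.1, ⊤) := fun V => by
    letI := (V.1.ι ≫ q).appTop.hom.toAlgebra
    haveI : IsAffine (V.1 : Scheme.{u}) := V.2
    haveI : Algebra.FinitePresentation Γ(B, ⊤) Γ(↑V.1, ⊤) :=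
      (HasRingHomProperty.iff_of_isAffine (P := @LocallyOfFinitePresentation)).mp
        (inferInstance : LocallyOfFinitePresentation (V.1.ι ≫ q))
    exact EGA43.FlatDescent.gFree_of_finitePresentation (S := Γ(↑V.1, ⊤))
  choose g hg0 hg using hfree
  refine ⟨∏ V ∈ σ, g V, Finset.prod_ne_zero_iff.mpr fun V _ => hg0 V, fun r' hr' y => ?_⟩
  obtain ⟨V, hVσ, hyV⟩ := Set.mem_iUnion₂.mp (hσ (Set.mem_univ y))
  refine ⟨V.1, hyV, V.2, ?_⟩
  obtain ⟨c, rfl⟩ := (Finset.dvd_prod_of_mem g hVσ).trans hr'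
  letI := (V.1.ι ≫ q).appTop.hom.toAlgebra
  exact EGA43.GenFree.free_refine _ c _ (hg V)

/-- The closure of the unit section meets the generic fibre only in the unit. -/
theorem exists_open_separated {B : Scheme.{u}} [IsAffine B] [IsIntegral B] (G : Over B) [GrpObj G]
    [QuasiCompact G.hom] [QuasiSeparated G.hom] :
    ∃ U : B.Opens, genericPoint B ∈ U ∧
      ∀ x : G.left, G.hom.base x ∈ U → x ∈ closure (Set.range η[G].left.base) → x ∈ Set.range η[G].left.base := by
  let e : B ⟶ G.left := η[G].left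
  have he : e ≫ G.hom = 𝟙 B := Over.w η[G]
  haveI : QuasiCompact e := by
    haveI : QuasiCompact (e ≫ G.hom) := by rw [he]; infer_instance
    exact QuasiCompact.of_comp e G.hom
  haveI : IsImmersion e := by
    haveI : IsImmersion (e ≫ G.hom) := by rw [he]; infer_instance
    exact IsImmersion.of_comp e G.hom
  haveI : CompactSpace G.left := QuasiCompact.compactSpace_of_compactSpace G.hom
  let C : Set G.left := closure (Set.range e.base) \ Set.range e.base
  have hC : IsClosed C := by
    have h := e.isLocallyClosed_range.isOpen_coborder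
    rw [coborder, isOpen_compl_iff] at h
    exact h
  have hgen : ∀ x ∈ C, G.hom.base x ≠ genericPoint B := by
    rintro x ⟨hx, hxn⟩ hxη
    apply hxn
    obtain ⟨t, ht⟩ := H8Top.exists_specializes_of_mem_closure_range e (y := x) hx
    have ht' : t = genericPoint B := by
      have h1 : G.hom.base (e.base t) ⤳ G.hom.base x := ht.map G.hom.continuous
      rw [← Scheme.Hom.comp_apply, he, hxη] at h1
      exact (h1.antisymm (genericPoint_specializes t)).eq
    let s := genericPoint B
    let x₀ : Spec (CommRingCat.of (B.residueField s)) ⟶ G.hom.fiber s :=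
      pullback.lift (B.fromSpecResidueField s ≫ e) (𝟙 _) (by rw [Category.assoc, he, Category.comp_id, Category.id_comp])
    haveI : GrpObj (Red.bc (B.fromSpecResidueField s) G) := inferInstance
    have h2 := SGA3xLib.range_isClosed_of_section (G.hom.fiberToSpecResidueField s) x₀ (pullback.lift_snd _ _ _)
    obtain ⟨y, hy⟩ : x ∈ Set.range (G.hom.fiberι s).base := (Scheme.Hom.range_fiberι G.hom s).ge hxη
    obtain ⟨a⟩ : Nonempty (Spec (CommRingCat.of (B.residueField s))) := inferInstance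
    have hx₀ : ∀ a, (G.hom.fiberι s).base (x₀.base a) = e.base t := fun a => by
      change (x₀ ≫ pullback.fst G.hom (B.fromSpecResidueField s)).base a = _
      erw [pullback.lift_fst]
      change e.base ((B.fromSpecResidueField s).base a) = _
      rw [show (B.fromSpecResidueField s).base a = s from (B.range_fromSpecResidueField s).le ⟨a, rfl⟩, ht']
    rw [← hy, ← hx₀ a, (G.hom.fiberι s).isEmbedding.isInducing.specializes_iff] at ht
    obtain ⟨b, rfl⟩ := ht.mem_closed h2 ⟨a, rfl⟩
    exact ⟨t, ((hx₀ b).symm.trans hy)⟩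
  let j := fun x : C => G.hom.base x.1
  refine ⟨⟨(closure (G.hom.base '' C))ᶜ, isClosed_closure.isOpen_compl⟩, ?_, fun x hxU hx => ?_⟩
  · intro hmem
    obtain ⟨c, hc⟩ : ∃ c, c ∈ C ∧ G.hom.base c ⤳ genericPoint B := by
      by_cases hne : C.Nonempty
      · let I := Scheme.IdealSheafData.vanishingIdeal (⟨C, hC⟩ : TopologicalSpace.Closeds G.left)
        obtain ⟨a, ha⟩ := H8Top.exists_specializes_of_mem_closure_range (I.subschemeι ≫ G.hom) (y := genericPoint B) (by
          have : Set.range (I.subschemeι ≫ G.hom).base = G.hom.base '' C := by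
            rw [Scheme.Hom.comp_base, TopCat.coe_comp, Set.range_comp]
            congr 1
            exact Scheme.IdealSheafData.range_subschemeι I
          rw [this]; exact hmem)
        exact ⟨I.subschemeι.base a, (Scheme.IdealSheafData.range_subschemeι I).le ⟨a, rfl⟩, ha⟩
      · rw [Set.not_nonempty_iff_eq_empty.mp hne, Set.image_empty, closure_empty] at hmem
        exact absurd hmem (Set.notMem_empty _)
    exact hgen c hc.1 ((hc.2.antisymm (genericPoint_specializes _)).eq)
  · by_contra hxn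
    exact hxU (subset_closure ⟨x, ⟨hx, hxn⟩, rfl⟩)

theorem exists_transporter_open {S : Scheme.{u}} [IsIntegral S] (G Y : Over S) [GrpObj G]
    [LocallyOfFinitePresentation G.hom] [QuasiCompact G.hom] [QuasiSeparated G.hom]
    [LocallyOfFinitePresentation Y.hom] [QuasiCompact Y.hom] (W₁ : S.Opens) (hW₁ : genericPoint S ∈ W₁) :
    ∃ U : S.Opens, (U : Set S).Nonempty ∧ U ≤ W₁ ∧ IsSeparated (Red.bc U.ι G).hom ∧
      SGA3x.IsEssentiallyFree (Red.bc U.ι Y).hom := by
  obtain ⟨U₀, hU₀, hη, hU₀W⟩ := exists_isAffineOpen_mem_and_subset (U := W₁) (x := genericPoint S) hW₁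
  let B : Scheme.{u} := U₀
  haveI : IsAffine B := hU₀
  haveI : Nonempty B := ⟨⟨genericPoint S, hη⟩⟩
  haveI : IsIntegral B := inferInstance
  let GB : Over B := Red.bc U₀.ι G
  haveI : QuasiCompact GB.hom := inferInstanceAs (QuasiCompact (pullback.snd G.hom U₀.ι))
  haveI : QuasiSeparated GB.hom := inferInstanceAs (QuasiSeparated (pullback.snd G.hom U₀.ι))
  obtain ⟨W, hW, hsep⟩ := exists_open_separated GB
  let qY := pullback.snd Y.hom U₀.ι
  obtain ⟨r₀, hr₀, hfree⟩ := exists_free_element qY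
  obtain ⟨a, haW, ha⟩ : ∃ a : Γ(B, ⊤), B.basicOpen a ≤ W ∧ genericPoint B ∈ B.basicOpen a :=
    (isAffineOpen_top B).exists_basicOpen_le ⟨genericPoint B, hW⟩ trivial
  let r := r₀ * a
  have ha0 : a ≠ 0 := fun h => by
    rw [h, Scheme.basicOpen_zero] at ha; exact ha
  let D : B.Opens := B.basicOpen r
  have hDW : D ≤ W := le_trans ((B.basicOpen_mul r₀ a).le.trans inf_le_right) haW
  have hDne : genericPoint B ∈ D := by
    have hne : D ≠ ⊥ := fun h => mul_ne_zero hr₀ ha0 ((basicOpen_eq_bot_iff r).mp h)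
    obtain ⟨y, hy⟩ := (TopologicalSpace.Opens.ne_bot_iff_nonempty D).mp hne
    exact (genericPoint_specializes y).mem_open D.isOpen hy
  let U : S.Opens := U₀.ι ''ᵁ D
  let b : (U : Scheme.{u}) ⟶ B := (U₀.ι.isoImage D).inv ≫ D.ι
  have hb : b ≫ U₀.ι = U.ι := by
    rw [Category.assoc]; exact Scheme.Hom.isoImage_inv_ι _ _
  refine ⟨U, ⟨U₀.ι.base (genericPoint B), genericPoint B, hDne, rfl⟩, (U₀.ι_image_le D).trans hU₀W, ?_, ?_⟩
  · apply SGA3cLib.isSeparated_of_isClosedImmersion_unit
    let GU := Red.bc U.ι G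
    let e : (U : Scheme.{u}) ⟶ GU.left := η[GU].left
    have he : e ≫ GU.hom = 𝟙 (U : Scheme.{u}) := Over.w η[GU]
    haveI : IsImmersion e := by
      haveI : IsImmersion (e ≫ GU.hom) := by rw [he]; infer_instance
      exact IsImmersion.of_comp e GU.hom
    refine IsClosedImmersion.of_isPreimmersion e (isClosed_of_closure_subset fun x hx => ?_)
    let c : GU.left ⟶ GB.left := pullback.lift (pullback.fst G.hom U.ι) (pullback.snd G.hom U.ι ≫ b) (by
      rw [Category.assoc, hb, pullback.condition])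
    have hc : c ≫ GB.hom = GU.hom ≫ b := pullback.lift_snd _ _ _
    have hη1 : ∀ {T : Scheme.{u}} (g : T ⟶ S), (η[Red.bc g G]).left ≫ pullback.fst G.hom g = g ≫ η[G].left := by
      intro T g
      show (Functor.LaxMonoidal.ε (Over.pullback g) ≫ (Over.pullback g).map η[G]).left ≫ _ = _
      simp only [Over.comp_left, Category.assoc]
      erw [pullback.lift_fst]
      rw [← Category.assoc]
      congr 1
      simp
    have hec : e ≫ c = b ≫ η[GB].left := by
      apply pullback.hom_ext
      · rw [Category.assoc, Category.assoc, pullback.lift_fst, hη1, hη1, reassoc_of% hb]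
      · have he' : e ≫ pullback.snd G.hom U.ι = 𝟙 _ := he
        rw [Category.assoc, Category.assoc, pullback.lift_snd, reassoc_of% he']
        exact ((Category.comp_id b).symm.trans (congrArg (b ≫ ·) (Over.w η[GB]).symm))
    have h1 : c.base x ∈ closure (Set.range η[GB].left.base) := by
      refine closure_mono ?_ (image_closure_subset_closure_image c.continuous ⟨x, hx, rfl⟩)
      rintro _ ⟨_, ⟨t, rfl⟩, rfl⟩
      exact ⟨b.base t, by rw [← Scheme.Hom.comp_apply, ← hec, Scheme.Hom.comp_apply]⟩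
    have h2 : GB.hom.base (c.base x) ∈ W := by
      rw [← Scheme.Hom.comp_apply, hc, Scheme.Hom.comp_apply]
      apply hDW
      rw [Scheme.Hom.comp_apply]
      exact D.range_ι.le ⟨_, rfl⟩
    obtain ⟨t, ht⟩ := hsep (c.base x) h2 h1
    refine ⟨GU.hom.base x, ?_⟩
    have h3 : GB.hom.base (η[GB].left.base t) = t := by
      rw [← Scheme.Hom.comp_apply, Over.w η[GB]]; rfl
    rw [ht, ← Scheme.Hom.comp_apply, hc, Scheme.Hom.comp_apply] at h3
    have h4 : c.base (e.base (GU.hom.base x)) = c.base x := by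
      rw [← Scheme.Hom.comp_apply, hec, Scheme.Hom.comp_apply, h3, ht]
    haveI : IsOpenImmersion c := by
      have sq : IsPullback c GU.hom GB.hom b := IsPullback.of_right
        (h₁₂ := pullback.fst G.hom U₀.ι) (v₁₃ := G.hom) (h₂₂ := U₀.ι)
        (by rw [show c ≫ pullback.fst G.hom U₀.ι = pullback.fst G.hom U.ι from pullback.lift_fst _ _ _, hb]
            exact IsPullback.of_hasPullback G.hom U.ι) hc (IsPullback.of_hasPullback G.hom U₀.ι)
      exact MorphismProperty.of_isPullback (P := @IsOpenImmersion) sq.flip inferInstance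
    exact c.isOpenEmbedding.injective h4
  · have hru : IsUnit (b.appTop r) := by
      rw [Scheme.Hom.comp_appTop, CommRingCat.comp_apply]
      refine IsUnit.map _ ?_
      show IsUnit (D.ι.appTop r)
      rw [Scheme.Opens.ι_appTop]
      have h1 : B.basicOpen r ≥ D.ι ''ᵁ ⊤ := le_of_eq D.ι_image_top
      have := (B.toRingedSpace.isUnit_res_basicOpen r).map (B.presheaf.map (homOfLE h1).op).hom
      refine (congrArg IsUnit ?_).mpr this
      exact (congrArg (fun φ => (B.presheaf.map φ).hom r)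
        (Subsingleton.elim _ ((homOfLE (B.basicOpen_le r)).op ≫ (homOfLE h1).op))).trans
          (congrArg (fun φ : Γ(B, ⊤) ⟶ Γ(B, D.ι ''ᵁ ⊤) => φ.hom r) (B.presheaf.map_comp (homOfLE (B.basicOpen_le r)).op (homOfLE h1).op))
    exact isEssentiallyFree_of_free (p := pullback.lift (pullback.fst Y.hom U.ι) (pullback.snd Y.hom U.ι ≫ b)
        (by rw [Category.assoc, hb, pullback.condition]))
      (IsPullback.of_right (h₁₂ := pullback.fst Y.hom U₀.ι) (v₁₃ := Y.hom) (h₂₂ := U₀.ι)
        (by rw [pullback.lift_fst, hb]; exact IsPullback.of_hasPullback Y.hom U.ι) (pullback.lift_snd _ _ _)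
        (IsPullback.of_hasPullback Y.hom U₀.ι))
      r hru (hfree r (dvd_mul_right _ _))

/-- The points where two families of maps agree, with finite presentation. -/
theorem exists_eq_fp {S : Scheme.{u}} {X P A : Over S} [QuasiCompact X.hom] (hX : SGA3x.IsEssentiallyFree X.hom)
    [IsSeparated A.hom] [LocallyOfFiniteType A.hom] (φ ψ : X ⊗ P ⟶ A) :
    ∃ (T : Over S) (t : T ⟶ P), IsClosedImmersion t.left ∧ LocallyOfFinitePresentation t.left ∧
      ∀ (S' : Over S) (g : S' ⟶ P), (∃ z : S' ⟶ T, z ≫ t = g) ↔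
        ∀ (S'' : Over S) (s : S'' ⟶ S') (x : S'' ⟶ X), lift x (s ≫ g) ≫ φ = lift x (s ≫ g) ≫ ψ := by
  let Δ : A ⟶ A ⊗ A := lift (𝟙 A) (𝟙 A)
  have h : Δ.left = pullback.diagonal A.hom := by
    apply pullback.hom_ext
    · rw [pullback.diagonal_fst]; exact congrArg (fun t : A ⟶ A => t.left) (lift_fst (𝟙 A) (𝟙 A))
    · rw [pullback.diagonal_snd]; exact congrArg (fun t : A ⟶ A => t.left) (lift_snd (𝟙 A) (𝟙 A))
  haveI : IsClosedImmersion Δ.left := by rw [h]; exact IsSeparated.isClosedImmersion_diagonal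
  have hfp : LocallyOfFinitePresentation Δ.left := by
    haveI : LocallyOfFinitePresentation (Δ.left ≫ (fst A A).left) := by
      rw [← Over.comp_left, lift_fst]; exact inferInstanceAs (LocallyOfFinitePresentation (𝟙 A.left))
    haveI : LocallyOfFiniteType (fst A A).left := inferInstanceAs (LocallyOfFiniteType (pullback.fst A.hom A.hom))
    exact H8Lim.lfp_cancel_right Δ.left (fst A A).left
  haveI : QuasiCompact (snd X P).left := inferInstanceAs (QuasiCompact (pullback.snd X.hom P.hom))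
  obtain ⟨T, t, ht, htfp, hT⟩ := SGA3cLib.TransporterFP.exists_transporter
    (SGA3cLib.TransporterFP.pure_of_essentiallyFree (S5356.essentiallyFree_baseChange X.hom P.hom hX) : _)
    (lift φ ψ) Δ
  refine ⟨T, t, ht, htfp hfp, fun S' g => (hT S' g).trans (forall₃_congr fun S'' s x => ?_)⟩
  constructor
  · rintro ⟨x', hx'⟩
    have h1 := congrArg (· ≫ fst A A) hx'
    have h2 := congrArg (· ≫ snd A A) hx'
    simp [Δ] at h1 h2
    rw [h1, h2]
  · intro h
    refine ⟨lift x (s ≫ g) ≫ φ, ?_⟩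
    simp [Δ, ← h]

end Groth.Agent.SGA3xLib.GenericTransporter26
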