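import Mathlib.LinearAlgebra.TensorProduct.Basis
import Mathlib.RingTheory.Localization.Away.Basic
import Mathlib.RingTheory.FiniteType
import Mathlib.RingTheory.TensorProduct.Finite
import Mathlib.RingTheory.FiniteStability
import Mathlib.LinearAlgebra.Basis.VectorSpace
import Mathlib.RingTheory.Localization.AtPrime.Basic

/-! Reducedness of a field extension of a local ring spreads to a neighbourhood. -/

set_option linter.style.haveILetI false
set_option autoImplicit false
set_option backward.isDefEq.respectTransparency.types false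

universe u

namespace Groth.Agent.SGA3xLib.ReducedSpread

open scoped TensorProduct


theorem lTensor_coeff {k Ω A O : Type u} [Field k] [CommRing Ω] [Algebra k Ω] [CommRing A] [Algebra k A]
    [CommRing O] [Algebra k O] {ι : Type u} [DecidableEq ι] (b : Module.Basis ι k Ω) (f : A →ₗ[k] O)
    (x : Ω ⊗[k] A) (i : ι) :
    TensorProduct.equivFinsuppOfBasisLeft b (f.lTensor Ω x) i =
      f (TensorProduct.equivFinsuppOfBasisLeft b x i) := by
  induction x using TensorProduct.induction_on with
  | zero => simp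
  | tmul w a => simp
  | add x y hx hy => simp only [map_add, Finsupp.add_apply, hx, hy]

/-- Reducedness of the tensor product with a local ring spreads to a neighbourhood. -/
theorem exists_nhd {k : Type u} [Field k] (Ω : Type u) [Field Ω] [Algebra k Ω] {A : Type u} [CommRing A]
    [Algebra k A] [Algebra.FiniteType k A] (O : Type u) [CommRing O] [Algebra k O] [Algebra A O]
    [IsScalarTower k A O] (p : Ideal A) [p.IsPrime] [IsLocalization.AtPrime O p]
    (h : _root_.IsReduced (Ω ⊗[k] O)) :
    ∃ s : A, s ∉ p ∧ _root_.IsReduced (Ω ⊗[k] Localization.Away s) := by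
  classical
  haveI : IsNoetherianRing (Ω ⊗[k] A) := Algebra.FiniteType.isNoetherianRing Ω _
  let b := Module.Basis.ofVectorSpace k Ω
  let f : A →ₐ[k] O := IsScalarTower.toAlgHom k A O
  let F : Ω ⊗[k] A →ₐ[k] Ω ⊗[k] O := Algebra.TensorProduct.map (AlgHom.id k Ω) f
  have hF : ∀ x, F x = f.toLinearMap.lTensor Ω x := fun x => by
    induction x using TensorProduct.induction_on with
    | zero => simp
    | tmul w a => simp [F]
    | add x y hx hy => simp only [map_add, hx, hy]
  have hkill : ∀ x, F x = 0 → ∃ s : A, s ∉ p ∧ ((1 : Ω) ⊗ₜ[k] s) * x = 0 := by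
    intro x hx
    set c := TensorProduct.equivFinsuppOfBasisLeft b x
    have hc : ∀ i, ∃ s : p.primeCompl, (s : A) * c i = 0 := fun i => by
      have h1 : algebraMap A O (c i) = 0 := by
        have h2 := lTensor_coeff b f.toLinearMap x i
        rw [← hF, hx] at h2
        simpa [f, c] using h2.symm
      exact (IsLocalization.map_eq_zero_iff p.primeCompl O _).mp h1
    choose s hs using hc
    refine ⟨∏ i ∈ c.support, (s i : A), fun hm => ?_, ?_⟩
    · obtain ⟨i, -, hi⟩ := (Ideal.IsPrime.prod_mem_iff (p := p)).mp hm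
      exact (s i).2 hi
    · refine (TensorProduct.equivFinsuppOfBasisLeft b).injective ?_
      have h1 : ∀ y : Ω ⊗[k] A, ((1 : Ω) ⊗ₜ[k] ∏ i ∈ c.support, (s i : A)) * y =
          (LinearMap.mulLeft k (∏ i ∈ c.support, (s i : A))).lTensor Ω y := fun y => by
        induction y using TensorProduct.induction_on with
        | zero => simp
        | tmul w a => simp
        | add y z hy hz => simp only [mul_add, map_add, hy, hz]
      ext i
      rw [h1, lTensor_coeff, map_zero, Finsupp.zero_apply]
      show _ * c i = 0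
      by_cases hi : i ∈ c.support
      · rw [← Finset.prod_erase_mul _ _ hi, _root_.mul_assoc, hs, mul_zero]
      · rw [Finsupp.notMem_support_iff.mp hi, mul_zero]
  obtain ⟨T, hT⟩ := IsNoetherian.noetherian (nilradical (Ω ⊗[k] A))
  have hgen : ∀ x : (T : Set (Ω ⊗[k] A)), ∃ s : A, s ∉ p ∧ ((1 : Ω) ⊗ₜ[k] s) * x.1 = 0 := fun x => by
    refine hkill _ (IsNilpotent.eq_zero (IsNilpotent.map (mem_nilradical.mp ?_) F))
    rw [← hT]; exact Submodule.subset_span x.2
  choose g hg hg0 using hgen
  let s : A := ∏ x, g x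
  have hs : s ∉ p := fun hm => by
    obtain ⟨x, -, hx⟩ := (Ideal.IsPrime.prod_mem_iff (p := p)).mp hm
    exact hg x hx
  let S : Ω ⊗[k] A := (1 : Ω) ⊗ₜ[k] s
  have hSg : ∀ x : (T : Set (Ω ⊗[k] A)), S * x.1 = 0 := fun x => by
    obtain ⟨c, hc⟩ := Finset.dvd_prod_of_mem g (Finset.mem_univ x)
    rw [show S = ((1 : Ω) ⊗ₜ[k] c) * ((1 : Ω) ⊗ₜ[k] g x) by
      rw [Algebra.TensorProduct.tmul_mul_tmul, mul_one, _root_.mul_comm c, ← hc], _root_.mul_assoc, hg0, mul_zero]
  have hSN : ∀ n, IsNilpotent n → S * n = 0 := fun n hn => by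
    have hn' : n ∈ Submodule.span (Ω ⊗[k] A) (T : Set (Ω ⊗[k] A)) := by rw [hT]; exact mem_nilradical.mpr hn
    clear hn
    induction hn' using Submodule.span_induction with
    | mem x hx => exact hSg ⟨x, hx⟩
    | zero => exact mul_zero _
    | add x y _ _ hx hy => rw [mul_add, hx, hy, add_zero]
    | smul a x _ hx => rw [smul_eq_mul, _root_.mul_left_comm, hx, mul_zero]
  refine ⟨s, hs, ⟨fun y hy => ?_⟩⟩
  let u : A →ₐ[k] Localization.Away s := IsScalarTower.toAlgHom k A _
  let G : Ω ⊗[k] A →ₐ[k] Ω ⊗[k] Localization.Away s := Algebra.TensorProduct.map (AlgHom.id k Ω) u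
  have hGS : IsUnit (G S) := by
    simp only [G, S, Algebra.TensorProduct.map_tmul, AlgHom.coe_id, id_eq]
    exact (IsLocalization.Away.algebraMap_isUnit (S := Localization.Away s) s).map
      (Algebra.TensorProduct.includeRight (R := k) (A := Ω))
  have hsurj : ∀ z, ∃ (n : ℕ) (x : Ω ⊗[k] A), G (S ^ n) * z = G x := fun z => by
    induction z using TensorProduct.induction_on with
    | zero => exact ⟨0, 0, by simp⟩
    | tmul w a =>
      obtain ⟨⟨c, ⟨_, n, rfl⟩⟩, hc⟩ := IsLocalization.surj (Submonoid.powers s) a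
      refine ⟨n, w ⊗ₜ c, ?_⟩
      simp only [G, S, map_pow, Algebra.TensorProduct.map_tmul, AlgHom.coe_id, id_eq,
        Algebra.TensorProduct.tmul_pow, one_pow, Algebra.TensorProduct.tmul_mul_tmul, one_mul]
      congr 1
      simpa [u, _root_.mul_comm] using hc
    | add z z' hz hz' =>
      obtain ⟨n, x, hx⟩ := hz
      obtain ⟨n', x', hx'⟩ := hz'
      exact ⟨n + n', S ^ n' * x + S ^ n * x', by
        simp only [map_add, map_mul, map_pow, pow_add, ← hx, ← hx']; ring⟩
  obtain ⟨n, x, hx⟩ := hsurj y
  obtain ⟨m, hm⟩ := hy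
  have hGx : G (x ^ m) = 0 := by rw [map_pow, ← hx, mul_pow, hm, mul_zero]
  have hGcoeff : ∀ i, algebraMap A (Localization.Away s) (TensorProduct.equivFinsuppOfBasisLeft b (x ^ m) i) = 0 := by
    intro i
    have h2 := lTensor_coeff b u.toLinearMap (x ^ m) i
    have h3 : u.toLinearMap.lTensor Ω (x ^ m) = G (x ^ m) := by
      generalize x ^ m = w
      induction w using TensorProduct.induction_on with
      | zero => simp
      | tmul w a => simp [G]
      | add v w hv hw => simp only [map_add, hv, hw]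
    rw [h3, hGx] at h2
    simpa [u] using h2.symm
  have hpow : ∀ i, ∃ j : ℕ, s ^ j * TensorProduct.equivFinsuppOfBasisLeft b (x ^ m) i = 0 := fun i => by
    obtain ⟨⟨_, j, rfl⟩, hj⟩ := (IsLocalization.map_eq_zero_iff (Submonoid.powers s) _ _).mp (hGcoeff i)
    exact ⟨j, hj⟩
  choose j hj using hpow
  let c := TensorProduct.equivFinsuppOfBasisLeft b (x ^ m)
  let J := ∑ i ∈ c.support, j i + 1
  have hJ : S ^ J * x ^ m = 0 := by
    refine (TensorProduct.equivFinsuppOfBasisLeft b).injective ?_
    have h1 : ∀ y : Ω ⊗[k] A, S ^ J * y = (LinearMap.mulLeft k (s ^ J)).lTensor Ω y := fun y => by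
      induction y using TensorProduct.induction_on with
      | zero => simp
      | tmul w a => simp [S]
      | add y z hy hz => simp only [mul_add, map_add, hy, hz]
    ext i
    rw [h1, lTensor_coeff, map_zero, Finsupp.zero_apply]
    show _ * c i = 0
    by_cases hi : i ∈ c.support
    · obtain ⟨e, he⟩ := Nat.exists_eq_add_of_le ((Finset.single_le_sum (fun i _ => Nat.zero_le (j i)) hi).trans (Nat.le_succ _))
      rw [show J = j i + e from he, pow_add, _root_.mul_right_comm, hj, zero_mul]
    · rw [Finsupp.notMem_support_iff.mp hi, mul_zero]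
  have hnil : IsNilpotent (S ^ J * x) := ⟨m + 1, by
    have hJ' : (J + J * m) = J * (m + 1) := by ring
    rw [mul_pow, ← pow_mul, ← hJ', pow_add S, pow_succ x]
    calc S ^ J * S ^ (J * m) * (x ^ m * x) = S ^ (J * m) * (S ^ J * x ^ m) * x := by ring
      _ = 0 := by rw [hJ, mul_zero, zero_mul]⟩
  have h0 := congrArg G (hSN _ hnil)
  rw [map_mul, map_mul, map_zero, map_pow, ← hx, map_pow, ← _root_.mul_assoc, ← _root_.mul_assoc,
    ← pow_succ', ← pow_add] at h0
  exact (hGS.pow _).mul_right_eq_zero.mp h0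

end Groth.Agent.SGA3xLib.ReducedSpread
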