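import Groth.Agent.SGA3cLib.CellExtend
import Groth.Agent.SGA3xLib.SepFibre

/-! Weil extension of a partial homomorphism defined on a fibrewise dense open. -/

set_option linter.style.haveILetI false
set_option linter.unusedSectionVars false
set_option autoImplicit false

universe u

open CategoryTheory CategoryTheory.Limits MonoidalCategory CartesianMonoidalCategory MonObj AlgebraicGeometry
open Red

noncomputable section

namespace Groth.Agent.SGA3xLib.WeilExtend26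

open SGA3cLib

variable {S : Scheme.{u}} {G H : Over S} [GrpObj G] [GrpObj H]

/-- On fppf covers, three translates of the open meet. -/
def HasTranslates (R : G.left.Opens) : Prop :=
  ∀ {X : Over S} (g₁ g₂ g₃ : X ⟶ G), ∃ (X' : Over S) (π : X' ⟶ X) (d e₁ e₂ e₃ : X' ⟶ opOver R),
    (Surjective π.left ∧ Flat π.left ∧ LocallyOfFinitePresentation π.left) ∧
    (π ≫ g₁) * (d ≫ opIncl R) = e₁ ≫ opIncl R ∧ (π ≫ g₂) * (d ≫ opIncl R) = e₂ ≫ opIncl R ∧
    (π ≫ g₃) * (d ≫ opIncl R) = e₃ ≫ opIncl R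

/-- A schematically dense open is dense. -/
theorem dense_of_isSchematicallyDense {X : Scheme.{u}} {U : X.Opens} (h : CInt.IsSchematicallyDense U) :
    Dense (U : Set X) := by
  rw [dense_iff_inter_open]
  intro W hW ⟨x, hx⟩
  by_contra hc
  let W' : X.Opens := ⟨W, hW⟩
  have he : W' ⊓ U = ⊥ := SetLike.ext' (Set.not_nonempty_iff_eq_empty.mp hc)
  haveI : Subsingleton Γ(X, W' ⊓ U) := by rw [he]; infer_instance
  have h1 : (1 : Γ(X, W')) = 0 := h W' (Subsingleton.elim _ _)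
  have := congrArg (X.presheaf.germ W' x hx) h1
  rw [map_one, map_zero] at this
  exact one_ne_zero this

/-- Schematic density passes to open subschemes. -/
theorem isSchematicallyDense_preimage {Y X : Scheme.{u}} (j : Y ⟶ X) [IsOpenImmersion j] {U : X.Opens}
    (h : CInt.IsSchematicallyDense U) : CInt.IsSchematicallyDense (j ⁻¹ᵁ U) := by
  intro W a b hab
  apply (ConcreteCategory.bijective_of_isIso (j.appIso W).inv).1
  apply h (j ''ᵁ W)
  have hW : j ''ᵁ (W ⊓ j ⁻¹ᵁ U) = j ''ᵁ W ⊓ U := by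
    ext z
    simp only [Scheme.Hom.coe_image, Set.mem_image, TopologicalSpace.Opens.coe_inf, Set.mem_inter_iff]
    exact ⟨fun ⟨y, ⟨hy, hyU⟩, hyz⟩ => ⟨⟨y, hy, hyz⟩, hyz ▸ hyU⟩,
      fun ⟨⟨y, hy, hyz⟩, hzU⟩ => ⟨y, ⟨hy, show j y ∈ U from hyz ▸ hzU⟩, hyz⟩⟩
  have key : ∀ c, X.presheaf.map (homOfLE (inf_le_left : j ''ᵁ W ⊓ U ≤ j ''ᵁ W)).op ((j.appIso W).inv c) =
      X.presheaf.map (eqToHom hW.symm).op ((j.appIso (W ⊓ j ⁻¹ᵁ U)).inv
        (Y.presheaf.map (homOfLE (inf_le_left : W ⊓ j ⁻¹ᵁ U ≤ W)).op c)) := fun c => by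
    simp only [← CommRingCat.comp_apply]
    rw [Scheme.Hom.appIso_inv_naturality, Category.assoc, ← Functor.map_comp]
    rfl
  rw [key, key, hab]

/-- Three translates of a neighbourhood of the unit section meet on every geometric fibre. -/
theorem exists_point_translates [LocallyOfFinitePresentation G.hom] (R : G.left.Opens)
    (hR : ∀ (S' : Scheme.{u}) (x : S' ⟶ S), Dense ((pullback.fst G.hom x).base ⁻¹' (R : Set G.left)))
    {K : Type u} [Field K] [IsAlgClosed K] (x : Spec (CommRingCat.of K) ⟶ S) (g₁ g₂ g₃ : Over.mk x ⟶ G) :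
    ∃ h : Over.mk x ⟶ G, Set.range h.left.base ⊆ (R : Set G.left) ∧
      Set.range (g₁ * h).left.base ⊆ (R : Set G.left) ∧ Set.range (g₂ * h).left.base ⊆ (R : Set G.left) ∧
      Set.range (g₃ * h).left.base ⊆ (R : Set G.left) := by
  let X₀ : Over S := Over.mk x
  let Y : Over S := Over.mk (pullback.snd G.hom x ≫ x)
  let f₁ : Y ⟶ G := Over.homMk (pullback.fst G.hom x) pullback.condition
  let q : Y ⟶ X₀ := Over.homMk (pullback.snd G.hom x) rfl
  let V : Set Y.left := f₁.left.base ⁻¹' R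
  have hV : IsOpen V := R.isOpen.preimage f₁.left.continuous
  let τ : (X₀ ⟶ G) → (Y ⟶ Y) := fun g => Over.homMk
    (pullback.lift ((q ≫ g) * f₁).left (pullback.snd G.hom x) (Over.w ((q ≫ g) * f₁)))
    (by show _ ≫ pullback.snd G.hom x ≫ x = _; rw [pullback.lift_snd_assoc]; rfl)
  have hτq : ∀ g, τ g ≫ q = q := fun g => Over.OverMorphism.ext (pullback.lift_snd _ _ _)
  have hτf : ∀ g, τ g ≫ f₁ = (q ≫ g) * f₁ := fun g => Over.OverMorphism.ext (pullback.lift_fst _ _ _)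
  have hinv : ∀ g, (τ g⁻¹ ≫ τ g).left = 𝟙 _ := fun g => by
    apply pullback.hom_ext
    · have h2 : (τ g⁻¹ ≫ τ g) ≫ f₁ = f₁ := by
        rw [Category.assoc, hτf, MonObj.comp_mul, ← Category.assoc, hτq, hτf, GrpObj.comp_inv,
          mul_inv_cancel_left]
      exact (congrArg CommaMorphism.left h2).trans (Category.id_comp _).symm
    · have h2 : (τ g⁻¹ ≫ τ g) ≫ q = q := by rw [Category.assoc, hτq, hτq]
      exact (congrArg CommaMorphism.left h2).trans (Category.id_comp _).symm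
  have hVd : Dense V := hR _ x
  have hO : ∀ g, IsOpen ((τ g).left.base ⁻¹' V) ∧ Dense ((τ g).left.base ⁻¹' V) := fun g => by
    refine ⟨hV.preimage (τ g).left.continuous, hVd.preimage ?_⟩
    haveI : IsIso (τ g).left := ⟨(τ g⁻¹).left, by simpa using hinv g⁻¹, hinv g⟩
    exact (τ g).left.homeomorph.isOpenMap
  have d3 : Dense (V ∩ (τ g₁).left.base ⁻¹' V ∩ (τ g₂).left.base ⁻¹' V ∩ (τ g₃).left.base ⁻¹' V) :=
    ((hVd.inter_of_isOpen_right (hO g₁).2 (hO g₁).1).inter_of_isOpen_right (hO g₂).2 (hO g₂).1).inter_of_isOpen_right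
      (hO g₃).2 (hO g₃).1
  have o3 := ((hV.inter (hO g₁).1).inter (hO g₂).1).inter (hO g₃).1
  haveI : Nonempty ↥Y.left := ⟨(pullback.lift (1 : X₀ ⟶ G).left (𝟙 _)
    ((Over.w (1 : X₀ ⟶ G)).trans (Category.id_comp _).symm)).base (IsLocalRing.closedPoint K)⟩
  have n3 := d3.nonempty
  haveI : LocallyOfFiniteType (pullback.snd G.hom x) := inferInstance
  haveI : JacobsonSpace ↥(pullback G.hom x) := LocallyOfFiniteType.jacobsonSpace (pullback.snd G.hom x)
  obtain ⟨c, ⟨⟨⟨hc, hc₁⟩, hc₂⟩, hc₃⟩, hcc⟩ :=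
    nonempty_inter_closedPoints (X := ↥(pullback G.hom x)) n3 o3.isLocallyClosed
  let p : X₀ ⟶ Y := Over.homMk (pointOfClosedPoint (pullback.snd G.hom x) c hcc) (by
    show _ ≫ pullback.snd G.hom x ≫ x = x
    exact pointOfClosedPoint_comp_assoc _ _ _ x) 
  have hpq : p ≫ q = 𝟙 X₀ := Over.OverMorphism.ext (pointOfClosedPoint_comp _ _ _)
  have hpc : ∀ a, p.left.base a = c := fun a => pointOfClosedPoint_apply _ _ _ a
  have hrange : ∀ g, c ∈ (τ g).left.base ⁻¹' V → Set.range (g * (p ≫ f₁)).left.base ⊆ (R : Set G.left) := by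
    intro g hg
    have : g * (p ≫ f₁) = p ≫ τ g ≫ f₁ := by rw [hτf, MonObj.comp_mul, reassoc_of% hpq]
    rintro _ ⟨a, rfl⟩
    rw [this]
    show f₁.left.base ((τ g).left.base (p.left.base a)) ∈ _
    rw [hpc]
    exact hg
  refine ⟨p ≫ f₁, ?_, hrange g₁ hc₁, hrange g₂ hc₂, hrange g₃ hc₃⟩
  rintro _ ⟨a, rfl⟩
  show f₁.left.base (p.left.base a) ∈ _
  rw [hpc]
  exact hc

/-- On an fppf cover, three translates of the neighbourhood meet. -/
theorem hasTranslates_of_dense [Flat G.hom] [LocallyOfFinitePresentation G.hom] (R : G.left.Opens)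
    (hR : ∀ (S' : Scheme.{u}) (x : S' ⟶ S), Dense ((pullback.fst G.hom x).base ⁻¹' (R : Set G.left))) :
    HasTranslates R := by
  intro X g₁ g₂ g₃
  let W₀ : (X ⊗ G).left.Opens := (snd X G).left ⁻¹ᵁ R ⊓ ((fst X G ≫ g₁) * snd X G).left ⁻¹ᵁ R ⊓
    ((fst X G ≫ g₂) * snd X G).left ⁻¹ᵁ R ⊓ ((fst X G ≫ g₃) * snd X G).left ⁻¹ᵁ R
  let X' : Over S := Over.mk (W₀.ι ≫ (X ⊗ G).hom)
  let j : X' ⟶ X ⊗ G := Over.homMk W₀.ι rfl
  have hj : ∀ z : X'.left, j.left.base z ∈ W₀ := fun z => z.2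
  have mem : ∀ g : X ⟶ G, (∀ z : X'.left, j.left.base z ∈ ((fst X G ≫ g) * snd X G).left ⁻¹ᵁ R) →
      Set.range (((j ≫ fst X G) ≫ g) * (j ≫ snd X G)).left.base ⊆ (R : Set G.left) := by
    intro g h
    rw [Category.assoc, ← MonObj.comp_mul]
    rintro _ ⟨z, rfl⟩
    exact h z
  obtain ⟨d, hd⟩ := exists_opPoint R (j ≫ snd X G) (by rintro _ ⟨z, rfl⟩; exact (hj z).1.1.1)
  obtain ⟨e₁, he₁⟩ := exists_opPoint R _ (mem g₁ fun z => (hj z).1.1.2)
  obtain ⟨e₂, he₂⟩ := exists_opPoint R _ (mem g₂ fun z => (hj z).1.2)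
  obtain ⟨e₃, he₃⟩ := exists_opPoint R _ (mem g₃ fun z => (hj z).2)
  refine ⟨X', j ≫ fst X G, d, e₁, e₂, e₃, ⟨⟨fun w => ?_⟩, ?_, ?_⟩, by rw [hd, he₁], by rw [hd, he₂], by rw [hd, he₃]⟩
  · let K := AlgebraicClosure (X.left.residueField w)
    let k₀ : Spec (CommRingCat.of K) ⟶ X.left :=
      Spec.map (CommRingCat.ofHom (algebraMap (X.left.residueField w) K)) ≫ X.left.fromSpecResidueField w
    let X₀ : Over S := Over.mk (k₀ ≫ X.hom)
    let k : X₀ ⟶ X := Over.homMk k₀ rfl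
    obtain ⟨h, h0, h1, h2, h3⟩ := exists_point_translates R hR (k₀ ≫ X.hom) (k ≫ g₁ : X₀ ⟶ G) (k ≫ g₂) (k ≫ g₃)
    let L : X₀ ⟶ X ⊗ G := lift k h
    have hL : ∀ a, L.left.base a ∈ W₀ := by
      intro a
      refine ⟨⟨⟨?_, ?_⟩, ?_⟩, ?_⟩
      · show (L ≫ snd X G).left.base a ∈ R
        rw [lift_snd]
        exact h0 ⟨a, rfl⟩
      · show (L ≫ ((fst X G ≫ g₁) * snd X G)).left.base a ∈ R
        rw [MonObj.comp_mul, lift_fst_assoc, lift_snd]
        exact h1 ⟨a, rfl⟩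
      · show (L ≫ ((fst X G ≫ g₂) * snd X G)).left.base a ∈ R
        rw [MonObj.comp_mul, lift_fst_assoc, lift_snd]
        exact h2 ⟨a, rfl⟩
      · show (L ≫ ((fst X G ≫ g₃) * snd X G)).left.base a ∈ R
        rw [MonObj.comp_mul, lift_fst_assoc, lift_snd]
        exact h3 ⟨a, rfl⟩
    refine ⟨⟨L.left.base (IsLocalRing.closedPoint K), hL _⟩, ?_⟩
    show (L ≫ fst X G).left.base (IsLocalRing.closedPoint K) = w
    rw [lift_fst]
    exact X.left.fromSpecResidueField_apply w _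
  · haveI : Flat (fst X G).left := inferInstanceAs (Flat (pullback.fst X.hom G.hom))
    haveI : Flat j.left := inferInstanceAs (Flat W₀.ι)
    rw [Over.comp_left]
    infer_instance
  · haveI : LocallyOfFinitePresentation (fst X G).left :=
      inferInstanceAs (LocallyOfFinitePresentation (pullback.fst X.hom G.hom))
    haveI : LocallyOfFinitePresentation j.left := inferInstanceAs (LocallyOfFinitePresentation W₀.ι)
    rw [Over.comp_left]
    infer_instance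

/-- A partial homomorphism on a neighbourhood of the unit section extends uniquely. -/
theorem existsUnique_extension (R : G.left.Opens) (hR : HasTranslates R)
    (Φ : opOver R ⟶ H)
    (hmul : ∀ (X : Over S) (u v w : X ⟶ opOver R),
      (u ≫ opIncl R) * (v ≫ opIncl R) = w ≫ opIncl R → (u ≫ Φ) * (v ≫ Φ) = w ≫ Φ) :
    ∃! F : G ⟶ H, IsMonHom F ∧ opIncl R ≫ F = Φ := by
  -- ratios are well defined
  have wd : ∀ {X : Over S} (a b a' b' : X ⟶ opOver R),
      (a ≫ opIncl R) * (b ≫ opIncl R)⁻¹ = (a' ≫ opIncl R) * (b' ≫ opIncl R)⁻¹ →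
        (a ≫ Φ) * (b ≫ Φ)⁻¹ = (a' ≫ Φ) * (b' ≫ Φ)⁻¹ := by
    intro X a b a' b' h
    obtain ⟨X', π, d, e, e₁, e₂, hπ, he, he₁, he₂⟩ := hR
      ((a ≫ opIncl R) * (b ≫ opIncl R)⁻¹) (b ≫ opIncl R)⁻¹ (b' ≫ opIncl R)⁻¹
    haveI := epi_of_fppf π hπ
    rw [GrpObj.comp_inv, ← Category.assoc] at he₁ he₂
    have k1 := hmul X' (π ≫ b) e₁ d (by rw [← he₁, mul_inv_cancel_left])
    have k2 := hmul X' (π ≫ b') e₂ d (by rw [← he₂, mul_inv_cancel_left])
    have k3 := hmul X' (π ≫ a) e₁ e (by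
      rw [← he₁, ← he, MonObj.comp_mul, GrpObj.comp_inv, Category.assoc, Category.assoc, _root_.mul_assoc])
    have k4 := hmul X' (π ≫ a') e₂ e (by
      rw [← he₂, ← he, h, MonObj.comp_mul, GrpObj.comp_inv, Category.assoc, Category.assoc, _root_.mul_assoc])
    refine (cancel_epi π).mp ?_
    simp only [MonObj.comp_mul, GrpObj.comp_inv]
    rw [← Category.assoc π a, ← Category.assoc π a', ← Category.assoc π b, ← Category.assoc π b']
    calc ((π ≫ a) ≫ Φ) * ((π ≫ b) ≫ Φ)⁻¹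
        = ((π ≫ a) ≫ Φ) * (e₁ ≫ Φ) * (((π ≫ b) ≫ Φ) * (e₁ ≫ Φ))⁻¹ := by group
      _ = (e ≫ Φ) * (d ≫ Φ)⁻¹ := by rw [k3, k1]
      _ = ((π ≫ a') ≫ Φ) * (e₂ ≫ Φ) * (((π ≫ b') ≫ Φ) * (e₂ ≫ Φ))⁻¹ := by rw [k4, k2]
      _ = ((π ≫ a') ≫ Φ) * ((π ≫ b') ≫ Φ)⁻¹ := by group
  obtain ⟨Y, ρ, dY, eY, -, -, hρ, hY, -, -⟩ := hR (𝟙 G) (𝟙 G) (𝟙 G)
  rw [Category.comp_id] at hY
  have hρ' : ρ = (eY ≫ opIncl R) * (dY ≫ opIncl R)⁻¹ := by rw [← hY, mul_inv_cancel_right]
  let F₀ : Y ⟶ H := (eY ≫ Φ) * (dY ≫ Φ)⁻¹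
  haveI := hρ.1
  haveI := hρ.2.1
  haveI := hρ.2.2
  haveI : Epi ρ.left := Flat.epi_of_flat_of_surjective _
  have hwell : ∀ {Z : Scheme.{u}} (g₁ g₂ : Z ⟶ Y.left), g₁ ≫ ρ.left = g₂ ≫ ρ.left →
      g₁ ≫ F₀.left = g₂ ≫ F₀.left := by
    intro Z g₁ g₂ hg
    let Zo : Over S := Over.mk (g₁ ≫ Y.hom)
    let p₁ : Zo ⟶ Y := Over.homMk g₁ rfl
    let p₂ : Zo ⟶ Y := Over.homMk g₂ (by
      show g₂ ≫ Y.hom = g₁ ≫ Y.hom
      rw [← Over.w ρ, ← Category.assoc, ← Category.assoc, hg])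
    have hp : p₁ ≫ ρ = p₂ ≫ ρ := Over.OverMorphism.ext hg
    rw [hρ', MonObj.comp_mul, MonObj.comp_mul, GrpObj.comp_inv, GrpObj.comp_inv, ← Category.assoc p₁,
      ← Category.assoc p₁, ← Category.assoc p₂, ← Category.assoc p₂] at hp
    have h := wd _ _ _ _ hp
    have h' : p₁ ≫ F₀ = p₂ ≫ F₀ := by
      simp only [F₀, MonObj.comp_mul, GrpObj.comp_inv, ← Category.assoc]
      exact h
    exact congrArg CommaMorphism.left h'
  let F₁ : G.left ⟶ H.left := EffectiveEpi.desc ρ.left F₀.left hwell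
  have hF₁ : ρ.left ≫ F₁ = F₀.left := EffectiveEpi.fac _ _ _
  let F : G ⟶ H := Over.homMk F₁ ((cancel_epi ρ.left).mp (by rw [reassoc_of% hF₁, Over.w F₀, Over.w ρ]))
  have hρF : ρ ≫ F = F₀ := Over.OverMorphism.ext hF₁
  have hform : ∀ {X : Over S} (g : X ⟶ G) (a b : X ⟶ opOver R),
      g = (a ≫ opIncl R) * (b ≫ opIncl R)⁻¹ → g ≫ F = (a ≫ Φ) * (b ≫ Φ)⁻¹ := by
    intro X g a b hg
    let X' : Over S := Over.mk (pullback.fst g.left ρ.left ≫ X.hom)
    let q : X' ⟶ X := Over.homMk (pullback.fst g.left ρ.left) rfl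
    let p : X' ⟶ Y := Over.homMk (pullback.snd g.left ρ.left) (by
      show pullback.snd g.left ρ.left ≫ Y.hom = pullback.fst g.left ρ.left ≫ X.hom
      rw [← Over.w g, pullback.condition_assoc, Over.w ρ])
    haveI : Flat q.left := inferInstanceAs (Flat (pullback.fst g.left ρ.left))
    haveI : Surjective q.left := inferInstanceAs (Surjective (pullback.fst g.left ρ.left))
    haveI : Epi q.left := Flat.epi_of_flat_of_surjective _
    haveI : Epi q := (Over.forget S).epi_of_epi_map (f := q) ‹_›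
    have hqp : q ≫ g = p ≫ ρ := Over.OverMorphism.ext pullback.condition
    refine (cancel_epi q).mp ?_
    rw [← Category.assoc, hqp, Category.assoc, hρF]
    simp only [F₀, MonObj.comp_mul, GrpObj.comp_inv]
    rw [← Category.assoc p, ← Category.assoc p, ← Category.assoc q, ← Category.assoc q]
    refine wd _ _ _ _ ?_
    rw [hg, hρ', MonObj.comp_mul, MonObj.comp_mul, GrpObj.comp_inv, GrpObj.comp_inv, ← Category.assoc q,
      ← Category.assoc q, ← Category.assoc p, ← Category.assoc p] at hqp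
    exact hqp.symm
  have hF : ∀ {X : Over S} (g g' : X ⟶ G), (g * g') ≫ F = (g ≫ F) * (g' ≫ F) := by
    intro X g g'
    obtain ⟨X', π, d, e, k, -, hπ, he, hk, -⟩ := hR g' (g * g') g'
    haveI := epi_of_fppf π hπ
    refine (cancel_epi π).mp ?_
    rw [MonObj.comp_mul] at hk
    have e1 := hform (π ≫ g') e d (by rw [← he, mul_inv_cancel_right])
    have e2 := hform (π ≫ (g * g')) k d (by rw [MonObj.comp_mul, ← hk, mul_inv_cancel_right])
    have e3 := hform (π ≫ g) k e (by rw [← hk, ← he]; group)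
    rw [← Category.assoc, e2, MonObj.comp_mul, ← Category.assoc, e3, ← Category.assoc, e1]
    group
  have h1 : (1 : 𝟙_ (Over S) ⟶ G) ≫ F = 1 := by
    have h := hF (1 : 𝟙_ (Over S) ⟶ G) 1
    rw [_root_.one_mul] at h
    exact left_eq_mul.mp h
  have hFm : IsMonHom F :=
    { one_hom := by
        have e := h1
        simp only [Hom.one_def, toUnit_unique (toUnit (𝟙_ (Over S))) (𝟙 _), Category.id_comp] at e
        exact e
      mul_hom := by
        have h := hF (fst G G) (snd G G)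
        rw [Hom.mul_def, Hom.mul_def, lift_fst_snd, Category.id_comp] at h
        rw [h]
        congr 1
        all_goals (apply CartesianMonoidalCategory.hom_ext <;> simp) }
  have hincl : opIncl R ≫ F = Φ := by
    obtain ⟨X', π, d, e, -, -, hπ, he, -, -⟩ := hR (opIncl R) (opIncl R) (opIncl R)
    haveI := epi_of_fppf π hπ
    refine (cancel_epi π).mp ?_
    rw [← Category.assoc, hform (π ≫ opIncl R) e d (by rw [← he, mul_inv_cancel_right]), ← hmul X' π d e he,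
      mul_inv_cancel_right]
  refine ⟨F, ⟨hFm, hincl⟩, fun F' ⟨hm', hi'⟩ => ?_⟩
  haveI := hm'
  haveI : Epi ρ := (Over.forget S).epi_of_epi_map (f := ρ) ‹_›
  refine (cancel_epi ρ).mp ?_
  rw [hρF, hρ', MonObj.mul_comp, GrpObj.inv_comp, Category.assoc, Category.assoc, hi']

/-- The multiplicativity of a partial homomorphism extends from a dense open of pairs. -/
theorem mul_of_dense (U : G.left.Opens) (Φ : opOver U ⟶ H) (V : (G ⊗ G).left.Opens)
    (hV : ∀ (S' : Scheme.{u}) (g : S' ⟶ S), CInt.IsSchematicallyDense ((pullback.fst (G ⊗ G).hom g) ⁻¹ᵁ V))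
    (hmul : ∀ (X : Over S) (a b c : X ⟶ opOver U), Set.range (lift (a ≫ opIncl U) (b ≫ opIncl U)).left.base ⊆ (V : Set ↥(G ⊗ G).left) →
      (a ≫ opIncl U) * (b ≫ opIncl U) = c ≫ opIncl U → (a ≫ Φ) * (b ≫ Φ) = c ≫ Φ)
    (X : Over S) (u v w : X ⟶ opOver U) (h : (u ≫ opIncl U) * (v ≫ opIncl U) = w ≫ opIncl U) :
    (u ≫ Φ) * (v ≫ Φ) = w ≫ Φ := by
  let W : (G ⊗ G).left.Opens := (fst G G).left ⁻¹ᵁ U ⊓ (snd G G).left ⁻¹ᵁ U ⊓ (fst G G * snd G G).left ⁻¹ᵁ U
  let Wo : Over S := Over.mk (W.ι ≫ (G ⊗ G).hom)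
  let j : Wo ⟶ G ⊗ G := Over.homMk W.ι rfl
  have hj : ∀ z : Wo.left, j.left.base z ∈ W := fun z => z.2
  obtain ⟨a, ha⟩ := exists_opPoint U (j ≫ fst G G) (by rintro _ ⟨z, rfl⟩; exact (hj z).1.1)
  obtain ⟨b, hb⟩ := exists_opPoint U (j ≫ snd G G) (by rintro _ ⟨z, rfl⟩; exact (hj z).1.2)
  obtain ⟨c, hc⟩ := exists_opPoint U (j ≫ (fst G G * snd G G)) (by rintro _ ⟨z, rfl⟩; exact (hj z).2)
  let F₁ : Wo ⟶ H := (a ≫ Φ) * (b ≫ Φ)
  let F₂ : Wo ⟶ H := c ≫ Φ
  let V₁ : Wo.left.Opens := W.ι ⁻¹ᵁ V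
  have hV₁ : ∀ (S' : Scheme.{u}) (g : S' ⟶ S), CInt.IsSchematicallyDense ((pullback.fst Wo.hom g) ⁻¹ᵁ V₁) := fun S' g => by
    let J : pullback Wo.hom g ⟶ pullback (G ⊗ G).hom g := pullback.map Wo.hom g (G ⊗ G).hom g W.ι (𝟙 _) (𝟙 _)
      (by simp [Wo]) (by simp)
    have hJ : J ≫ pullback.fst (G ⊗ G).hom g = pullback.fst Wo.hom g ≫ W.ι := pullback.lift_fst _ _ _
    haveI : IsOpenImmersion W.ι := inferInstance
    haveI : IsOpenImmersion J := inferInstance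
    have h1 := isSchematicallyDense_preimage J (hV S' g)
    rw [← Scheme.Hom.comp_preimage, hJ, Scheme.Hom.comp_preimage] at h1
    exact h1
  have hEq : F₁ = F₂ := by
    refine SGA3xLib.hom_eq_of_universally_dense Wo H V₁ hV₁ (fun s => ?_) F₁ F₂ ?_
    · exact SGA3xLib.isSeparated_of_grpObj (K := S.residueField s) (Red.bc (S.fromSpecResidueField s) H)
    let X₁ : Over S := Over.mk (V₁.ι ≫ Wo.hom)
    let i₁ : X₁ ⟶ Wo := Over.homMk V₁.ι rfl
    have h1 := hmul X₁ (i₁ ≫ a) (i₁ ≫ b) (i₁ ≫ c) (by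
      have e : lift ((i₁ ≫ a) ≫ opIncl U) ((i₁ ≫ b) ≫ opIncl U) = i₁ ≫ j := by
        rw [Category.assoc, Category.assoc, ha, hb, ← comp_lift, ← comp_lift, lift_fst_snd, Category.comp_id]
      rw [e]
      rintro _ ⟨z, rfl⟩
      exact z.2)
      (by simp only [Category.assoc, ha, hb, hc, ← MonObj.comp_mul])
    have h2 : i₁ ≫ F₁ = i₁ ≫ F₂ := by
      simp only [F₁, F₂, MonObj.comp_mul, ← Category.assoc]
      exact h1
    exact congrArg CommaMorphism.left h2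
  let L : X ⟶ G ⊗ G := lift (u ≫ opIncl U) (v ≫ opIncl U)
  have hL : Set.range L.left.base ⊆ (W : Set (G ⊗ G).left) := by
    rintro _ ⟨z, rfl⟩
    have hu : L ≫ fst G G = u ≫ opIncl U := lift_fst _ _
    have hv : L ≫ snd G G = v ≫ opIncl U := lift_snd _ _
    have hw : L ≫ (fst G G * snd G G) = w ≫ opIncl U := by rw [MonObj.comp_mul, hu, hv, h]
    refine ⟨⟨?_, ?_⟩, ?_⟩
    · show (L ≫ fst G G).left.base z ∈ U
      rw [hu]; exact (u.left.base z).2
    · show (L ≫ snd G G).left.base z ∈ U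
      rw [hv]; exact (v.left.base z).2
    · show (L ≫ (fst G G * snd G G)).left.base z ∈ U
      rw [hw]; exact (w.left.base z).2
  obtain ⟨l, hl⟩ := exists_opPoint (G := G ⊗ G) W L hL
  haveI : Mono (opIncl U) := Over.mono_of_mono_left _
  have hla : l ≫ a = u := (cancel_mono (opIncl U)).mp (by
    rw [Category.assoc, ha, ← Category.assoc, show l ≫ j = L from hl]; exact lift_fst _ _)
  have hlb : l ≫ b = v := (cancel_mono (opIncl U)).mp (by
    rw [Category.assoc, hb, ← Category.assoc, show l ≫ j = L from hl]; exact lift_snd _ _)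
  have hlc : l ≫ c = w := (cancel_mono (opIncl U)).mp (by
    rw [Category.assoc, hc, ← Category.assoc, show l ≫ j = L from hl, MonObj.comp_mul, lift_fst, lift_snd, h])
  have h3 := congrArg (fun F => l ≫ F) hEq
  simp only [F₁, F₂, MonObj.comp_mul, ← Category.assoc, hla, hlb, hlc] at h3
  exact h3

end Groth.Agent.SGA3xLib.WeilExtend26
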